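import Cfsg.Agent.S3183
import Cfsg.Agent.S3184
import Cfsg.Prelude.Def_TwoFusion

/-!
# Central Sylow 2-intersections: first facts
-/

set_option autoImplicit false
set_option linter.style.haveILetI false

namespace Cfsg.Agent.Lib.CentralInt88

open Cfsg.Agent.Lib.Inv59.Basic
open scoped Pointwise

universe u

variable {G : Type u} [Group G]

/-- An element of two distinct Sylow 2-subgroups commutes with both. -/
def CI (G : Type u) [Group G] : Prop :=
  ∀ S T : Sylow 2 G, S ≠ T → ∀ x ∈ (S : Subgroup G), x ∈ (T : Subgroup G) →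
    ∀ s ∈ (S : Subgroup G), s * x = x * s

theorem ci_of_hyp [Finite G]
    (hCI : ∀ S T : Sylow 2 G, S ≠ T → ∃ U : Sylow 2 G,
      (S : Subgroup G) ⊓ (T : Subgroup G) ≤
        (Subgroup.center ↥(U : Subgroup G)).map (U : Subgroup G).subtype) : CI G := by
  intro S T hne x hxS hxT s hs
  obtain ⟨z, hz, hzx⟩ := ((Cfsg.Agent.S3183.result hCI S).2 T (Ne.symm hne) ⟨hxS, hxT⟩).1
  have h := congrArg Subtype.val (Subgroup.mem_center_iff.1 hz ⟨s, hs⟩)
  rw [← hzx]
  exact h

theorem hyp_of_ci (h : CI G) : ∀ S T : Sylow 2 G, S ≠ T → ∃ U : Sylow 2 G,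
      (S : Subgroup G) ⊓ (T : Subgroup G) ≤
        (Subgroup.center ↥(U : Subgroup G)).map (U : Subgroup G).subtype :=
  fun S T hne => ⟨S, fun x hx => ⟨⟨x, hx.1⟩, Subgroup.mem_center_iff.2 fun s =>
    Subtype.ext (h S T hne x hx.1 hx.2 s s.2), rfl⟩⟩

/-- The property passes to subgroups. -/
theorem CI.subgroup (h : CI G) (H : Subgroup G) : CI ↥H := by
  intro P Q hne x hxP hxQ s hs
  obtain ⟨P', hP'⟩ := (P.isPGroup'.map H.subtype).exists_le_sylow
  obtain ⟨Q', hQ'⟩ := (Q.isPGroup'.map H.subtype).exists_le_sylow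
  have hne' : P' ≠ Q' := by
    rintro rfl
    have h2 : IsPGroup 2 ↥((P' : Subgroup G).subgroupOf H) := P'.isPGroup'.comap_subtype
    exact hne (Sylow.ext ((P.3 h2 fun a ha => hP' ⟨a, ha, rfl⟩).symm.trans
      (Q.3 h2 fun a ha => hQ' ⟨a, ha, rfl⟩)))
  exact Subtype.ext (h P' Q' hne' x (hP' ⟨x, hxP, rfl⟩) (hQ' ⟨x, hxQ, rfl⟩) s (hP' ⟨s, hs, rfl⟩))

/-- The elements of `S` commuting with all of `S`. -/
def Cent (S : Sylow 2 G) (x : G) : Prop := ∀ s ∈ (S : Subgroup G), s * x = x * s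

/-- A 2-element of a subgroup containing `S` is conjugate in it into `S`. -/
theorem exists_conj_into [Finite G] (S : Sylow 2 G) {H : Subgroup G} (hH : (S : Subgroup G) ≤ H)
    {y : G} (hy : y ∈ H) {k : ℕ} (hk : y ^ 2 ^ k = 1) :
    ∃ h ∈ H, h * y * h⁻¹ ∈ (S : Subgroup G) := by
  haveI : Fact (Nat.Prime 2) := ⟨Nat.prime_two⟩
  obtain ⟨h, hh, hc⟩ := exists_conj_mem_sylow S H (Subgroup.zpowers y) hH
    (by
      obtain ⟨j, -, hj⟩ := (Nat.dvd_prime_pow Nat.prime_two).1 (orderOf_dvd_of_pow_eq_one hk)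
      exact IsPGroup.of_card (n := j) (by rw [Nat.card_zpowers, hj]))
    (Subgroup.zpowers_le.2 hy)
  exact ⟨h, hh, hc y (Subgroup.mem_zpowers y)⟩

theorem exists_pow_two_pow (S : Sylow 2 G) {x : G} (hx : x ∈ (S : Subgroup G)) :
    ∃ k, x ^ 2 ^ k = 1 := by
  obtain ⟨k, hk⟩ := S.isPGroup' ⟨x, hx⟩
  exact ⟨k, congrArg Subtype.val hk⟩

theorem mem_conj_sylow {S : Sylow 2 G} {g x : G} :
    x ∈ ((g • S : Sylow 2 G) : Subgroup G) ↔ g⁻¹ * x * g ∈ (S : Subgroup G) := by
  rw [show ((g • S : Sylow 2 G) : Subgroup G) = MulAut.conj g • (S : Subgroup G) from rfl,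
    Subgroup.mem_pointwise_smul_iff_inv_smul_mem]
  simp [MulAut.smul_def]

/-- `S` is the only Sylow 2-subgroup containing a non-central element of `S`. -/
theorem CI.normalizes (h : CI G) [Finite G] (S : Sylow 2 G) {x : G} (hx : x ∈ (S : Subgroup G))
    (hxc : ¬ Cent S x) {g : G} (hgc : g * x * g⁻¹ = x) :
    g ∈ Subgroup.normalizer ((S : Subgroup G) : Set G) := by
  haveI : Fact (Nat.Prime 2) := ⟨Nat.prime_two⟩
  refine Sylow.smul_eq_iff_mem_normalizer.1 ?_
  by_contra hne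
  refine hxc (h S (g • S) (Ne.symm hne) x hx (mem_conj_sylow.2 ?_))
  have e : g⁻¹ * x * g = x := by
    conv_lhs => rw [← hgc]
    group
  rw [e]; exact hx

/-- The centraliser of a non-central element of `S` normalises `S`. -/
theorem CI.centralizer_le (h : CI G) [Finite G] (S : Sylow 2 G) {x : G}
    (hx : x ∈ (S : Subgroup G)) (hxc : ¬ Cent S x) :
    Subgroup.centralizer ({x} : Set G) ≤ Subgroup.normalizer ((S : Subgroup G) : Set G) := by
  intro g hg
  have hgc : g * x * g⁻¹ = x := by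
    rw [Subgroup.mem_centralizer_singleton_iff.1 hg, mul_inv_cancel_right]
  exact h.normalizes S hx hxc hgc

/-- Fusion in `S`: a conjugating element is a normalising one times a centralising one. -/
theorem CI.fusion (h : CI G) [Finite G] (S : Sylow 2 G) {x y g : G} (hx : x ∈ (S : Subgroup G))
    (hy : y ∈ (S : Subgroup G)) (hg : g * x * g⁻¹ = y) :
    ∃ n ∈ Subgroup.normalizer ((S : Subgroup G) : Set G), n * x * n⁻¹ = y ∧ g * n⁻¹ * y = y * (g * n⁻¹) := by
  haveI : Fact (Nat.Prime 2) := ⟨Nat.prime_two⟩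
  by_cases hS : g • S = S
  · exact ⟨g, Sylow.smul_eq_iff_mem_normalizer.1 hS, hg, by simp⟩
  have hyg : y ∈ ((g • S : Sylow 2 G) : Subgroup G) := by
    rw [mem_conj_sylow, ← hg]; simpa [mul_assoc] using hx
  have h1 : Cent S y := h S (g • S) (Ne.symm hS) y hy hyg
  have h2 : Cent (g • S) y := h (g • S) S hS y hyg hy
  have hle1 : (S : Subgroup G) ≤ Subgroup.centralizer ({y} : Set G) := fun s hs =>
    Subgroup.mem_centralizer_singleton_iff.2 (h1 s hs)
  have hle2 : ((g • S : Sylow 2 G) : Subgroup G) ≤ Subgroup.centralizer ({y} : Set G) := fun s hs =>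
    Subgroup.mem_centralizer_singleton_iff.2 (h2 s hs)
  obtain ⟨c, hc⟩ := MulAction.exists_smul_eq ↥(Subgroup.centralizer ({y} : Set G))
    ((g • S).subtype hle2) (S.subtype hle1)
  rw [Sylow.smul_subtype] at hc
  have hcS : (c : G) • g • S = S := Sylow.subtype_injective hc
  have hcy : (c : G) * y = y * (c : G) := Subgroup.mem_centralizer_singleton_iff.1 c.2
  refine ⟨(c : G) * g, ?_, ?_, ?_⟩
  · refine Sylow.smul_eq_iff_mem_normalizer.1 ?_
    rw [mul_smul]; exact hcS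
  · calc (c : G) * g * x * ((c : G) * g)⁻¹ = c * (g * x * g⁻¹) * (c : G)⁻¹ := by group
      _ = y := by rw [hg, hcy, mul_inv_cancel_right]
  · rw [show g * ((c : G) * g)⁻¹ = (c : G)⁻¹ by group]
    exact ((Commute.inv_left (hcy : Commute (c : G) y))).eq

theorem exists_pullback [Finite G] {X : Type*} [Group X] {f : G →* X} (hf : Function.Surjective f)
    (T : Sylow 2 X) : ∃ S : Sylow 2 G, S.mapSurjective hf = T := by
  haveI : Fact (Nat.Prime 2) := ⟨Nat.prime_two⟩
  haveI : Finite X := Finite.of_surjective f hf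
  obtain ⟨S⟩ := (inferInstance : Nonempty (Sylow 2 G))
  obtain ⟨x, hx⟩ := MulAction.exists_smul_eq X (S.mapSurjective hf) T
  obtain ⟨g, rfl⟩ := hf x
  refine ⟨g • S, ?_⟩
  rw [← hx]
  refine Sylow.ext ?_
  ext a
  constructor
  · rintro ⟨z, hz, rfl⟩
    show f z ∈ MulAut.conj (f g) • (S : Subgroup G).map f
    rw [Subgroup.mem_pointwise_smul_iff_inv_smul_mem]
    exact ⟨g⁻¹ * z * g, mem_conj_sylow.1 hz, by simp [MulAut.smul_def]⟩
  · intro ha
    have ha' : a ∈ MulAut.conj (f g) • (S : Subgroup G).map f := ha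
    rw [Subgroup.mem_pointwise_smul_iff_inv_smul_mem] at ha'
    obtain ⟨z, hz, hza⟩ := ha'
    refine ⟨g * z * g⁻¹, mem_conj_sylow.2 (by rw [show g⁻¹ * (g * z * g⁻¹) * g = z by group]; exact hz), ?_⟩
    simp only [MulAut.smul_def, MulAut.conj_inv_apply] at hza
    rw [map_mul, map_mul, map_inv, hza]; group

/-- The property passes to quotients. -/
theorem CI.quotient (h : CI G) [Finite G] (N : Subgroup G) [N.Normal] : CI (G ⧸ N) := by
  haveI : Fact (Nat.Prime 2) := ⟨Nat.prime_two⟩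
  have hsurj := QuotientGroup.mk'_surjective N
  intro P Q hne x hxP hxQ s hs
  obtain ⟨S, rfl⟩ := exists_pullback hsurj P
  obtain ⟨T, rfl⟩ := exists_pullback hsurj Q
  rw [Sylow.coe_mapSurjective] at hxP hxQ hs
  obtain ⟨s, hs, rfl⟩ := hs
  obtain ⟨x, hx, rfl⟩ := hxP
  obtain ⟨t, ht, htx⟩ := hxQ
  have hxTN : x ∈ (T : Subgroup G) ⊔ N := by
    have : t⁻¹ * x ∈ N := QuotientGroup.eq.1 htx
    have e : x = t * (t⁻¹ * x) := by group
    rw [e]
    exact Subgroup.mul_mem_sup ht this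
  obtain ⟨k, hk⟩ := exists_pow_two_pow S hx
  obtain ⟨a, ha, hax⟩ := exists_conj_into T le_sup_left hxTN hk
  have hne' : S ≠ a⁻¹ • T := by
    rintro rfl
    refine hne (Sylow.ext ?_)
    have hpa : QuotientGroup.mk' N a ∈ (T : Subgroup G).map (QuotientGroup.mk' N) := by
      have := Subgroup.mem_map_of_mem (QuotientGroup.mk' N) ha
      rwa [Subgroup.map_sup, (Subgroup.map_eq_bot_iff N).2 (QuotientGroup.ker_mk' N).ge, sup_bot_eq] at this
    obtain ⟨b, hb, hba⟩ := hpa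
    rw [Sylow.coe_mapSurjective, Sylow.coe_mapSurjective]
    ext y
    constructor
    · rintro ⟨z, hz, rfl⟩
      have hz' := mem_conj_sylow.1 hz
      rw [inv_inv] at hz'
      refine ⟨b⁻¹ * (a * z * a⁻¹) * b, mul_mem (mul_mem (inv_mem hb) hz') hb, ?_⟩
      simp only [map_mul, map_inv, hba]; group
    · rintro ⟨z, hz, rfl⟩
      refine ⟨a⁻¹ * (b * z * b⁻¹) * a, mem_conj_sylow.2 ?_, ?_⟩
      · simpa [mul_assoc] using mul_mem (mul_mem hb hz) (inv_mem hb)
      · simp only [map_mul, map_inv, hba]; group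
  have hxT : x ∈ ((a⁻¹ • T : Sylow 2 G) : Subgroup G) := by
    rw [mem_conj_sylow]
    simpa using hax
  rw [← map_mul, ← map_mul, h S (a⁻¹ • T) hne' x hx hxT s hs]

end Cfsg.Agent.Lib.CentralInt88
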