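import Cfsg.Agent.Lib.CentralInt88.StrongEmb
import Mathlib.GroupTheory.SchurZassenhaus

/-!
# The generated case: normal subgroups of odd or 2-power order are central
-/

set_option autoImplicit false
set_option linter.style.haveILetI false
set_option linter.unusedSectionVars false

namespace Cfsg.Agent.Lib.CentralInt88

open Cfsg.Agent.Lib.Inv59.Basic

universe u

variable {G : Type u} [Group G] [Finite G]

local notation "πZ" => QuotientGroup.mk' (Subgroup.center G)

/-- Odd subgroups normalised by `S` are centralised by it. -/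
def OddFix (S : Sylow 2 G) : Prop :=
  ∀ X : Subgroup G, Odd (Nat.card X) → (S : Subgroup G) ≤ Subgroup.normalizer (X : Set G) →
    (S : Subgroup G) ≤ Subgroup.centralizer (X : Set G)

/-- `G` is generated by the conjugates of `S`. -/
def Gen (S : Sylow 2 G) : Prop := ∀ L : Subgroup G, L.Normal → (S : Subgroup G) ≤ L → L = ⊤

theorem Gen.le_center {S : Sylow 2 G} (hgen : Gen S) (X : Subgroup G) [X.Normal]
    (h : (S : Subgroup G) ≤ Subgroup.centralizer (X : Set G)) : X ≤ Subgroup.center G := by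
  have h1 := hgen (Subgroup.centralizer (X : Set G)) inferInstance h
  intro x hx
  refine Subgroup.mem_center_iff.2 fun g => ?_
  exact (Subgroup.mem_centralizer_iff.1 (h1 ▸ Subgroup.mem_top g) x hx).symm

theorem odd_le_center {S : Sylow 2 G} (hgen : Gen S) (hfix : OddFix S) (X : Subgroup G) [X.Normal]
    (hX : Odd (Nat.card X)) : X ≤ Subgroup.center G :=
  hgen.le_center X (hfix X hX (by rw [Subgroup.normalizer_eq_top_iff.2 inferInstance]; exact le_top))

theorem two_le_center {S : Sylow 2 G} (hgen : Gen S) (hCI : CI G)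
    (hnS : ¬ (S : Subgroup G).Normal) (D : Subgroup G) [D.Normal] (hD : IsPGroup 2 ↥D) :
    D ≤ Subgroup.center G := by
  haveI : Fact (Nat.Prime 2) := ⟨Nat.prime_two⟩
  have hle : ∀ T : Sylow 2 G, D ≤ (T : Subgroup G) := fun T d hd => by
    obtain ⟨k, hk⟩ := hD ⟨d, hd⟩
    have hk' : d ^ 2 ^ k = 1 := congrArg Subtype.val hk
    obtain ⟨g, -, hg⟩ := exists_conj_into T (H := ⊤) le_top (Subgroup.mem_top d) hk'
    have hDT : D ⊔ (T : Subgroup G) = (T : Subgroup G) :=
      T.3 (hD.to_sup_of_normal_left T.isPGroup') le_sup_right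
    exact hDT ▸ Subgroup.mem_sup_left hd
  obtain ⟨T, hT⟩ : ∃ T : Sylow 2 G, T ≠ S := by
    by_contra h
    push Not at h
    exact hnS (Subgroup.normalizer_eq_top_iff.1 ((Subgroup.eq_top_iff' _).2 fun g =>
      Sylow.smul_eq_iff_mem_normalizer.1 (h (g • S))))
  exact hgen.le_center D fun s hs => Subgroup.mem_centralizer_iff.2 fun d hd =>
    (hCI S T (Ne.symm hT) d (hle S hd) (hle T hd) s hs).symm

theorem center_quotient_eq_bot {S : Sylow 2 G} (hgen : Gen S) (hCI : CI G) (hfix : OddFix S)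
    (hnS : ¬ (S : Subgroup G).Normal) : Subgroup.center (G ⧸ Subgroup.center G) = ⊥ := by
  haveI : Fact (Nat.Prime 2) := ⟨Nat.prime_two⟩
  rw [eq_bot_iff]
  intro q hq
  obtain ⟨w, rfl⟩ := QuotientGroup.mk'_surjective _ q
  rw [Subgroup.mem_bot]
  refine (map_eq_one_iff_center _).2 ?_
  obtain ⟨k, m, hm, hkm⟩ := Nat.exists_eq_pow_mul_and_not_dvd (orderOf_pos w).ne' 2 (by norm_num)
  have key : ∀ u : G, πZ u ∈ Subgroup.center (G ⧸ Subgroup.center G) →
      ((∃ l, u ^ 2 ^ l = 1) ∨ ∃ l, Odd l ∧ u ^ l = 1) → u ∈ Subgroup.center G := by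
    intro u hu hcases
    have hconj : ∀ g : G, u⁻¹ * (g * u * g⁻¹) ∈ Subgroup.center G := fun g => by
      refine (map_eq_one_iff_center _).1 ?_
      have h := Subgroup.mem_center_iff.1 hu (πZ g)
      rw [map_mul, map_mul, map_mul, map_inv, map_inv, h, mul_inv_cancel_right, inv_mul_cancel]
    set U := Subgroup.closure (Group.conjugatesOfSet ({u} : Set G)) with hU
    haveI hUn : U.Normal := Subgroup.normalClosure_normal
    have hUc : IsMulCommutative ↥U := by
      rw [← Subgroup.le_centralizer_iff_isMulCommutative, hU, Subgroup.centralizer_closure,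
        Subgroup.closure_le]
      intro a ha
      rw [SetLike.mem_coe, Subgroup.mem_centralizer_iff]
      intro b hb
      obtain ⟨ua, hua, ha'⟩ := Group.mem_conjugatesOfSet_iff.1 ha
      obtain ⟨ub, hub, hb'⟩ := Group.mem_conjugatesOfSet_iff.1 hb
      rw [Set.mem_singleton_iff] at hua hub
      subst ua ub
      obtain ⟨g, rfl⟩ := isConj_iff.1 ha'
      obtain ⟨g', rfl⟩ := isConj_iff.1 hb'
      rw [show g * u * g⁻¹ = u * (u⁻¹ * (g * u * g⁻¹)) by group,
        show g' * u * g'⁻¹ = u * (u⁻¹ * (g' * u * g'⁻¹)) by group]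
      have hc : ∀ {z : G}, z ∈ Subgroup.center G → ∀ y, Commute z y := fun hz y =>
        (Subgroup.mem_center_iff.1 hz y).symm
      exact (((Commute.refl u).mul_right (hc (hconj g) u).symm).mul_left (hc (hconj g') _)).eq
    letI : CommGroup ↥U := { mul_comm := hUc.is_comm.comm }
    have hexp : ∀ l : ℕ, u ^ l = 1 → ∀ a : ↥U, a ^ l = 1 := fun l hl a => by
      let P : Subgroup G := (powMonoidHom l : ↥U →* ↥U).ker.map U.subtype
      have hle : U ≤ P := by
        rw [hU, Subgroup.closure_le]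
        intro x hx
        refine ⟨⟨x, Subgroup.subset_closure hx⟩, Subtype.ext ?_, rfl⟩
        show x ^ l = 1
        obtain ⟨ux, hux, hx'⟩ := Group.mem_conjugatesOfSet_iff.1 hx
        rw [Set.mem_singleton_iff] at hux
        subst ux
        obtain ⟨g, rfl⟩ := isConj_iff.1 hx'
        rw [conj_pow, hl, mul_one, mul_inv_cancel]
      obtain ⟨b, hb, hba⟩ := hle a.2
      rw [← U.subtype_injective (show U.subtype b = U.subtype a from hba)]
      exact hb
    have huU : u ∈ U := Subgroup.subset_closure (Group.subset_conjugatesOfSet rfl)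
    rcases hcases with ⟨l, hl⟩ | ⟨l, hlo, hl⟩
    · exact two_le_center hgen hCI hnS U (fun a => ⟨l, hexp _ hl a⟩) huU
    · refine odd_le_center hgen hfix U ?_ huU
      rw [← Nat.not_even_iff_odd]
      intro hev
      obtain ⟨a, ha⟩ := exists_prime_orderOf_dvd_card' (G := ↥U) 2 (even_iff_two_dvd.1 hev)
      have := orderOf_dvd_of_pow_eq_one (hexp l hl a)
      rw [ha] at this
      exact Nat.not_even_iff_odd.2 hlo (even_iff_two_dvd.2 this)
  have hmodd : Odd m := Nat.odd_iff.2 (by omega)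
  have hpow : ∀ j : ℕ, w ^ j ∈ Subgroup.center G → ∀ i : ℕ, w ^ (j * i) ∈ Subgroup.center G :=
    fun j hj i => by rw [pow_mul]; exact pow_mem hj i
  have h1 := key (w ^ m) (by rw [map_pow]; exact pow_mem hq m)
    (Or.inl ⟨k, by rw [← pow_mul, mul_comm, ← hkm, pow_orderOf_eq_one]⟩)
  have h2 := key (w ^ 2 ^ k) (by rw [map_pow]; exact pow_mem hq _)
    (Or.inr ⟨m, hmodd, by rw [← pow_mul, ← hkm, pow_orderOf_eq_one]⟩)
  have hcop : Nat.Coprime m (2 ^ k) := (Nat.coprime_two_right.2 hmodd).pow_right k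
  have hbez := Nat.gcd_eq_gcd_ab m (2 ^ k)
  rw [hcop.gcd_eq_one] at hbez
  have e : w = (w ^ m) ^ Nat.gcdA m (2 ^ k) * (w ^ 2 ^ k) ^ Nat.gcdB m (2 ^ k) := by
    rw [← zpow_natCast w m, ← zpow_natCast w (2 ^ k), ← zpow_mul, ← zpow_mul, ← zpow_add, ← hbez]
    simp
  rw [e]
  exact mul_mem (zpow_mem h1 _) (zpow_mem h2 _)

theorem oddCore_quotient_eq_bot {S : Sylow 2 G} (hgen : Gen S) (hfix : OddFix S) :
    Cfsg.oddCore (G ⧸ Subgroup.center G) = ⊥ := by
  haveI : Fact (Nat.Prime 2) := ⟨Nat.prime_two⟩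
  set N := Cfsg.oddCore (G ⧸ Subgroup.center G) with hN
  have hNodd : Odd (Nat.card N) := ZStar.Elements.oddCore_odd
  set W := N.comap πZ with hW
  haveI hWn : W.Normal := Subgroup.Normal.comap inferInstance _
  set D : Subgroup ↥W := ((S : Subgroup G) ⊓ Subgroup.center G).subgroupOf W with hD
  have hDc : ∀ d ∈ D, ∀ w : ↥W, w * d = d * w := fun d hd w =>
    Subtype.ext (Subgroup.mem_center_iff.1 hd.2 w)
  haveI : D.Normal := ⟨fun d hd w => by rw [hDc d hd w, mul_inv_cancel_right]; exact hd⟩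
  have htwo : ∀ w ∈ W, (∃ k, w ^ 2 ^ k = 1) → w ∈ (S : Subgroup G) ⊓ Subgroup.center G := by
    rintro w hw ⟨k, hk⟩
    have h1 : orderOf (πZ w) ∣ 2 ^ k := orderOf_dvd_of_pow_eq_one (by rw [← map_pow, hk, map_one])
    have h2 : orderOf (πZ w) ∣ Nat.card N := Subgroup.orderOf_dvd_natCard _ hw
    have h3 := orderOf_eq_one_iff.1
      (Nat.eq_one_of_dvd_coprimes ((Nat.coprime_two_left.2 hNodd).pow_left k) h1 h2)
    have hz := (map_eq_one_iff_center _).1 h3
    exact ⟨center_mem_sylow S hz hk, hz⟩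
  have hDp : IsPGroup 2 ↥D :=
    (S.isPGroup'.to_le inf_le_left : IsPGroup 2 ↥((S : Subgroup G) ⊓ Subgroup.center G)).comap_subtype
  have hcop : (Nat.card D).Coprime D.index := by
    obtain ⟨i, hi⟩ := IsPGroup.iff_card.1 hDp
    rw [hi]
    refine (Nat.coprime_two_left.2 (Nat.not_even_iff_odd.1 fun hev => ?_)).pow_left i
    have : 2 ∣ Nat.card (↥W ⧸ D) := by rw [← Subgroup.index_eq_card]; exact even_iff_two_dvd.1 hev
    obtain ⟨q, hq⟩ := exists_prime_orderOf_dvd_card' 2 this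
    obtain ⟨⟨y, hy⟩, rfl⟩ := QuotientGroup.mk'_surjective D q
    obtain ⟨k, m, hm, hkm⟩ := Nat.exists_eq_pow_mul_and_not_dvd (orderOf_pos y).ne' 2 (by norm_num)
    have h1 : (⟨y, hy⟩ : ↥W) ^ m ∈ D :=
      htwo _ (pow_mem hy m) ⟨k, by
        show (y ^ m) ^ 2 ^ k = 1
        rw [← pow_mul, mul_comm, ← hkm, pow_orderOf_eq_one]⟩
    have h2 : 2 ∣ m := hq ▸ orderOf_dvd_of_pow_eq_one (by
      rw [← map_pow]; exact (QuotientGroup.eq_one_iff _).2 h1)
    exact hm h2
  obtain ⟨R, hR⟩ := Subgroup.exists_right_complement'_of_coprime hcop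
  have hsplit : ∀ w : ↥W, ∃ d ∈ D, ∃ r ∈ R, d * r = w := fun w => by
    obtain ⟨⟨⟨d, hd⟩, ⟨r, hr⟩⟩, h⟩ := hR.2 w
    exact ⟨d, hd, r, hr, h⟩
  have hRn : R.Normal := ⟨fun r hr w => by
    obtain ⟨d, hd, r', hr', rfl⟩ := hsplit w
    have e : d * r' * r * (d * r')⁻¹ = d * (r' * r * r'⁻¹) * d⁻¹ := by group
    rw [e, ← hDc d hd, mul_inv_cancel_right]
    exact mul_mem (mul_mem hr' hr) (inv_mem hr')⟩
  have hRcard : Odd (Nat.card R) := by
    have h1 := hR.card_mul_card
    have h2 : Nat.card R = D.index := by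
      rw [← Subgroup.card_mul_index D] at h1
      exact Nat.eq_of_mul_eq_mul_left Nat.card_pos h1
    rw [h2]
    obtain ⟨i, hi⟩ := IsPGroup.iff_card.1 hDp
    rcases Nat.eq_zero_or_pos i with rfl | hi0
    · rw [pow_zero] at hi
      have hDb : D = ⊥ := Subgroup.eq_bot_of_card_eq D hi
      rw [← Nat.not_even_iff_odd]
      intro hev
      have : 2 ∣ Nat.card ↥W := (even_iff_two_dvd.1 hev).trans (Subgroup.index_dvd_card D)
      obtain ⟨y, hy⟩ := exists_prime_orderOf_dvd_card' 2 this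
      have : y ∈ D := htwo y y.2 ⟨1, by
        have := pow_orderOf_eq_one y; rw [hy] at this; simpa using congrArg Subtype.val this⟩
      rw [hDb, Subgroup.mem_bot] at this
      rw [this, orderOf_one] at hy
      omega
    · rw [hi] at hcop
      exact Nat.coprime_two_left.1 (hcop.coprime_dvd_left (dvd_pow_self 2 hi0.ne'))
  set R' := R.map W.subtype with hR'
  haveI : R'.Normal := ⟨fun x hx g => by
    obtain ⟨⟨r, hrW⟩, hr, rfl⟩ := hx
    have hgW : g * r * g⁻¹ ∈ W := hWn.conj_mem r hrW g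
    obtain ⟨d, hd, r', hr', hdr⟩ := hsplit ⟨g * r * g⁻¹, hgW⟩
    refine ⟨⟨g * r * g⁻¹, hgW⟩, ?_, rfl⟩
    have h1 : orderOf (⟨g * r * g⁻¹, hgW⟩ : ↥W) ∣ Nat.card R := by
      rw [← Subgroup.orderOf_coe, Subgroup.coe_mk, show orderOf (g * r * g⁻¹) = orderOf r from (MulAut.conj g).orderOf_eq r,
        show orderOf r = orderOf (⟨r, hrW⟩ : ↥W) from Subgroup.orderOf_coe (⟨r, hrW⟩ : ↥W)]
      exact Subgroup.orderOf_dvd_natCard _ hr
    have hc : Commute d r' := (hDc d hd r').symm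
    have hd1 : d ^ Nat.card R = 1 := by
      have h3 := orderOf_dvd_iff_pow_eq_one.1 h1
      rw [← hdr, hc.mul_pow] at h3
      rwa [orderOf_dvd_iff_pow_eq_one.1 (Subgroup.orderOf_dvd_natCard _ hr'), mul_one] at h3
    obtain ⟨i, hi⟩ := hDp ⟨d, hd⟩
    have hd2 : d ^ 2 ^ i = 1 := congrArg Subtype.val hi
    have hone := orderOf_eq_one_iff.1 (Nat.eq_one_of_dvd_coprimes
      ((Nat.coprime_two_left.2 hRcard).pow_left i) (orderOf_dvd_of_pow_eq_one hd2)
      (orderOf_dvd_of_pow_eq_one hd1))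
    rw [← hdr, hone, one_mul]
    exact hr'⟩
  have hR'c : R' ≤ Subgroup.center G := odd_le_center hgen hfix R' (by
    rw [Subgroup.card_map_of_injective W.subtype_injective]; exact hRcard)
  rw [eq_bot_iff]
  intro q hq
  obtain ⟨w, rfl⟩ := QuotientGroup.mk'_surjective _ q
  rw [Subgroup.mem_bot]
  refine (map_eq_one_iff_center _).2 ?_
  obtain ⟨d, hd, r, hr, hdr⟩ := hsplit ⟨w, hq⟩
  rw [← show (d : G) * r = w from congrArg Subtype.val hdr]
  exact mul_mem hd.2 (hR'c ⟨r, hr, rfl⟩)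

end Cfsg.Agent.Lib.CentralInt88
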