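import Cfsg.Agent.Lib.CentralInt88.Data
import Cfsg.Agent.Lib.CentralInt88.Generated
import Cfsg.Agent.Lib.BenderSuzuki.Main

/-!
# The centralisers of the involutions modulo the centre normalise the Sylow subgroup
-/

set_option autoImplicit false
set_option linter.style.haveILetI false
set_option linter.unusedSectionVars false

namespace Cfsg.Agent.Lib.CentralInt88

open Cfsg.Agent.Lib.Inv59.Basic
open Cfsg.Agent.Lib.BenderConsumers23
open scoped commutatorElement

universe u

variable {G : Type u} [Group G] [Finite G]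

/-- The inductive knowledge about proper subgroups containing `S`. -/
def Below (S : Sylow 2 G) : Prop :=
  ∀ H : Subgroup G, (S : Subgroup G) ≤ H → H ≠ ⊤ →
    H ≤ Subgroup.normalizer ((S : Subgroup G) : Set G) ∨ ∃ L, Good S H L

theorem center_le_centralizer' (L : Subgroup G) :
    Subgroup.center G ≤ Subgroup.centralizer (L : Set G) :=
  Subgroup.center_le_centralizer _

/-- A centraliser not normalising `S` has good data. -/
theorem exists_good {S : Sylow 2 G} (hCI : CI G) (hIH : Below S) {y : G}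
    (hy : y ∈ (S : Subgroup G)) (hyz : y ∉ Subgroup.center G)
    (hnle : ¬ Subgroup.centralizer ({y} : Set G) ≤ Subgroup.normalizer ((S : Subgroup G) : Set G)) :
    Cent S y ∧ ∃ L, Good S (Subgroup.centralizer ({y} : Set G)) L := by
  have hc : Cent S y := by
    by_contra h
    exact hnle (hCI.centralizer_le S hy h)
  have hS : (S : Subgroup G) ≤ Subgroup.centralizer ({y} : Set G) := fun s hs =>
    Subgroup.mem_centralizer_singleton_iff.2 (hc s hs)
  refine ⟨hc, (hIH _ hS fun h => hyz ?_).resolve_left hnle⟩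
  rwa [Subgroup.centralizer_eq_top_iff_subset, Set.singleton_subset_iff] at h

/-- An element centralising the component has the same component. -/
theorem good_same {S : Sylow 2 G} (hCI : CI G) (hIH : Below S) {x : G} {L₀ : Subgroup G}
    (hx : x ∈ (S : Subgroup G)) (hx2 : x * x ∈ Subgroup.center G)
    (hg₀ : Good S (Subgroup.centralizer ({x} : Set G)) L₀) {y : G} (hy : y ∈ (S : Subgroup G))
    (hyz : y ∉ Subgroup.center G) (hyc : y ∈ Subgroup.centralizer (L₀ : Set G)) :
    Good S (Subgroup.centralizer ({y} : Set G)) L₀ := by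
  have hL₀ : L₀ ≤ Subgroup.centralizer ({y} : Set G) := fun l hl =>
    Subgroup.mem_centralizer_singleton_iff.2 (Subgroup.mem_centralizer_iff.1 hyc l hl)
  obtain ⟨-, L, hg⟩ := exists_good hCI hIH hy hyz fun h => hg₀.not_le (hL₀.trans h)
  have h1 : L₀ ≤ L := hg.residual L₀ hL₀ hg₀.perfect
  have hxc : x ∈ Subgroup.centralizer (L : Set G) := by
    by_contra h
    exact hg₀.not_le fun l hl =>
      hg.cent x ⟨hx, h, center_le_centralizer' L hx2⟩ ⟨h1 hl, hg₀.le hl⟩
  have h2 : L ≤ L₀ := hg₀.residual L (fun l hl => Subgroup.mem_centralizer_singleton_iff.2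
    (Subgroup.mem_centralizer_iff.1 hxc l hl)) hg.perfect
  rwa [le_antisymm h1 h2]

/-- `n` normalising `S` normalises its derived group. -/
theorem conj_mem_commutator {S : Sylow 2 G} {n c : G}
    (hn : n ∈ Subgroup.normalizer ((S : Subgroup G) : Set G))
    (hc : c ∈ ⁅(S : Subgroup G), (S : Subgroup G)⁆) :
    n * c * n⁻¹ ∈ ⁅(S : Subgroup G), (S : Subgroup G)⁆ := by
  have h := Subgroup.mem_map_of_mem (MulAut.conj n : G →* G) hc
  rw [Subgroup.map_commutator, Subgroup.mem_normalizer_iff_map_conj_eq.1 hn] at h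
  exact h

theorem commutator_le_self (S : Sylow 2 G) :
    ⁅(S : Subgroup G), (S : Subgroup G)⁆ ≤ (S : Subgroup G) :=
  Subgroup.commutator_le.2 fun _ ha _ hb =>
    mul_mem (mul_mem (mul_mem ha hb) (inv_mem ha)) (inv_mem hb)

/-- The elementary part of the derived group of `S` in its centre. -/
def elemPart (S : Sylow 2 G) : Subgroup G where
  carrier := {s | s ∈ ⁅(S : Subgroup G), (S : Subgroup G)⁆ ∧ Cent S s ∧ s * s = 1}
  one_mem' := ⟨one_mem _, fun s _ => by simp, mul_one 1⟩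
  mul_mem' := by
    rintro a b ⟨ha, hac, ha2⟩ ⟨hb, hbc, hb2⟩
    have hab : b * a = a * b := hac b (commutator_le_self S hb)
    refine ⟨mul_mem ha hb, fun s hs => ((Commute.mul_right (hac s hs) (hbc s hs))).eq, ?_⟩
    calc a * b * (a * b) = a * (b * a) * b := by group
      _ = a * (a * b) * b := by rw [hab]
      _ = (a * a) * (b * b) := by group
      _ = 1 := by rw [ha2, hb2, mul_one]
  inv_mem' := by
    rintro a ⟨ha, hac, ha2⟩
    rw [inv_eq_of_mul_eq_one_right ha2]
    exact ⟨ha, hac, ha2⟩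

theorem conj_mem_elemPart {S : Sylow 2 G} {n c : G}
    (hn : n ∈ Subgroup.normalizer ((S : Subgroup G) : Set G)) (hc : c ∈ elemPart S) :
    n * c * n⁻¹ ∈ elemPart S := by
  refine ⟨conj_mem_commutator hn hc.1, fun s hs => ?_, ?_⟩
  · have h := hc.2.1 (n⁻¹ * s * n) ((Subgroup.mem_normalizer_iff''.1 hn s).1 hs)
    calc s * (n * c * n⁻¹) = n * ((n⁻¹ * s * n) * c) * n⁻¹ := by group
      _ = n * (c * (n⁻¹ * s * n)) * n⁻¹ := by rw [h]
      _ = n * c * n⁻¹ * s := by group
  · rw [show n * c * n⁻¹ * (n * c * n⁻¹) = n * (c * c) * n⁻¹ by group, hc.2.2, mul_one, mul_inv_cancel]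

theorem exists_elemPart_ne_one (S : Sylow 2 G)
    (h : ⁅(S : Subgroup G), (S : Subgroup G)⁆ ≠ ⊥) : ∃ s ∈ elemPart S, s ≠ 1 := by
  haveI : Fact (Nat.Prime 2) := ⟨Nat.prime_two⟩
  set D := (⁅(S : Subgroup G), (S : Subgroup G)⁆).subgroupOf (S : Subgroup G) with hD
  haveI : D.Normal := ⟨fun d hd s =>
    conj_mem_commutator (Subgroup.le_normalizer s.2) hd⟩
  have hDne : D ≠ ⊥ := fun hb => h (by
    rw [← Subgroup.map_subgroupOf_eq_of_le (commutator_le_self S), ← hD, hb, Subgroup.map_bot])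
  obtain ⟨z, hzD, hzc, hz1⟩ := exists_central_mem S.isPGroup' D hDne
  obtain ⟨k, hk⟩ := exists_pow_two_pow S z.2
  obtain ⟨i, -, hi⟩ := (Nat.dvd_prime_pow Nat.prime_two).1 (orderOf_dvd_of_pow_eq_one hk)
  rcases i with _ | i
  · exact absurd (Subtype.ext (orderOf_eq_one_iff.1 (by simpa using hi))) hz1
  refine ⟨(z : G) ^ 2 ^ i, ⟨pow_mem hzD _, fun s hs => ?_, ?_⟩, fun h1 => ?_⟩
  · exact (Commute.pow_right (congrArg Subtype.val (Subgroup.mem_center_iff.1 hzc ⟨s, hs⟩)) _).eq
  · rw [← pow_add, ← two_mul, ← pow_succ', ← hi, pow_orderOf_eq_one]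
  · have h2 := orderOf_dvd_of_pow_eq_one h1
    rw [hi] at h2
    have := (Nat.pow_dvd_pow_iff_le_right (by norm_num)).1 h2
    omega

/-- An involution modulo the centre, with centraliser not in `N(S)`, centralises the component. -/
theorem outer_centralizes {S : Sylow 2 G} (hCI : CI G) (hIH : Below S) {x : G} {L₀ : Subgroup G}
    (hx : x ∈ (S : Subgroup G)) (hx2 : x * x ∈ Subgroup.center G)
    (hg₀ : Good S (Subgroup.centralizer ({x} : Set G)) L₀) {v : G} (hv : v ∈ (S : Subgroup G))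
    (hvz : v ∉ Subgroup.center G) (hv2 : v * v ∈ Subgroup.center G)
    (hnle : ¬ Subgroup.centralizer ({v} : Set G) ≤ Subgroup.normalizer ((S : Subgroup G) : Set G)) :
    v ∈ Subgroup.centralizer (L₀ : Set G) := by
  classical
  by_contra hvc
  obtain ⟨hvC, L, hg⟩ := exists_good hCI hIH hv hvz hnle
  have hvO : Outer S L₀ v := ⟨hv, hvc, center_le_centralizer' L₀ hv2⟩
  obtain ⟨h₀, h₀'⟩ := hg₀.central ⟨v, hvO, hvC⟩
  have hxL₀ : x ∈ Subgroup.centralizer (L₀ : Set G) := Subgroup.mem_centralizer_iff.2 fun l hl =>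
    Subgroup.mem_centralizer_singleton_iff.1 (hg₀.le hl)
  have hxC : Cent S x := hg₀.cent_of_centralizes hCI hx hxL₀
  have hxL : x ∉ Subgroup.centralizer (L : Set G) := fun h => by
    have hle : L ≤ L₀ := hg₀.residual L (fun l hl => Subgroup.mem_centralizer_singleton_iff.2
      (Subgroup.mem_centralizer_iff.1 h l hl)) hg.perfect
    exact hg.not_le fun l hl => hg₀.cent v hvO ⟨hle hl, hg.le hl⟩
  obtain ⟨h₁, -⟩ := hg.central ⟨x, ⟨hx, hxL, center_le_centralizer' L hx2⟩, hxC⟩
  obtain ⟨s₀, hs₀, hs₀1⟩ := exists_elemPart_ne_one S fun hb => h₀' (by rw [hb]; exact bot_le)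
  have hYS : ∀ t ∈ elemPart S, t ∈ (S : Subgroup G) := fun t ht => commutator_le_self S ht.1
  have hY₀ : ∀ t ∈ elemPart S, t ≠ 1 → Outer S L₀ t := fun t ht ht1 =>
    ⟨hYS t ht, fun h => ht1 (h₀ t ht.1 h), by rw [ht.2.2]; exact one_mem _⟩
  have hcov : ∀ y, Outer S L₀ y → ∃ t ∈ elemPart S, t ≠ 1 ∧
      y * t⁻¹ ∈ Subgroup.centralizer (L₀ : Set G) := by
    intro y hy
    obtain ⟨n, hn, hnc⟩ := hg₀.trans s₀ y (hY₀ s₀ hs₀ hs₀1) hy
    refine ⟨n * s₀ * n⁻¹, conj_mem_elemPart hn.2 hs₀, fun h => hs₀1 ?_, ?_⟩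
    · exact conj_eq_one_iff.1 h
    · have := inv_mem hnc
      rwa [mul_inv_rev, inv_inv] at this
  obtain ⟨s, hs, hs1, hsc⟩ := hcov v hvO
  set a := v * s⁻¹ with ha
  have haS : a ∈ (S : Subgroup G) := mul_mem hv (inv_mem (hYS s hs))
  have haC : Cent S a := hg₀.cent_of_centralizes hCI haS hsc
  have hv_eq : v = a * s := by rw [ha, inv_mul_cancel_right]
  have ha2 : a * a = v * v := by
    have hcomm : Commute s⁻¹ v := (show Commute s v from (hs.2.1 v hv).symm).inv_left
    calc a * a = v * (s⁻¹ * v) * s⁻¹ := by rw [ha]; group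
      _ = v * (v * s⁻¹) * s⁻¹ := by rw [hcomm.eq]
      _ = v * v * (s * s)⁻¹ := by group
      _ = v * v := by rw [hs.2.2, inv_one, mul_one]
  have haz : a ∉ Subgroup.center G := fun h => by
    refine hs1 (h₁ s hs.1 ?_)
    have e : s = a⁻¹ * v := by rw [hv_eq, inv_mul_cancel_left]
    rw [e]
    refine mul_mem (inv_mem (center_le_centralizer' L h)) (Subgroup.mem_centralizer_iff.2 ?_)
    exact fun l hl => Subgroup.mem_centralizer_singleton_iff.1 (hg.le hl)
  have hga := good_same hCI hIH hx hx2 hg₀ haS haz hsc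
  let P : Subgroup G :=
    { carrier := {g | g ∈ Subgroup.normalizer ((S : Subgroup G) : Set G) ∧
        g * a * g⁻¹ * a⁻¹ ∈ elemPart S}
      one_mem' := ⟨one_mem _, by simp⟩
      mul_mem' := by
        rintro g h ⟨hg, hga⟩ ⟨hh, hha⟩
        refine ⟨mul_mem hg hh, ?_⟩
        have e : g * h * a * (g * h)⁻¹ * a⁻¹ =
            (g * (h * a * h⁻¹ * a⁻¹) * g⁻¹) * (g * a * g⁻¹ * a⁻¹) := by group
        rw [e]
        exact mul_mem (conj_mem_elemPart hg hha) hga
      inv_mem' := by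
        rintro g ⟨hg, hga⟩
        refine ⟨inv_mem hg, ?_⟩
        have h := inv_mem (conj_mem_elemPart (inv_mem hg) hga)
        have e : (g⁻¹ * (g * a * g⁻¹ * a⁻¹) * g⁻¹⁻¹)⁻¹ = g⁻¹ * a * g⁻¹⁻¹ * a⁻¹ := by group
        rwa [e] at h }
  have hP : ∀ g, g ∈ P ↔ g ∈ Subgroup.normalizer ((S : Subgroup G) : Set G) ∧
      g * a * g⁻¹ * a⁻¹ ∈ elemPart S := fun g => Iff.rfl
  have hP₀ : ∀ n ∈ L₀ ⊓ Subgroup.normalizer ((S : Subgroup G) : Set G),
      n * a * n⁻¹ = a ∧ n ∈ P := fun n hn => by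
    have h : n * a * n⁻¹ = a := by
      rw [Subgroup.mem_centralizer_singleton_iff.1 (hga.le hn.1), mul_inv_cancel_right]
    exact ⟨h, (hP n).2 ⟨hn.2, by rw [h, mul_inv_cancel]; exact one_mem _⟩⟩
  have hP₁ : ∀ n ∈ L ⊓ Subgroup.normalizer ((S : Subgroup G) : Set G), n ∈ P := fun n hn => by
    refine (hP n).2 ⟨hn.2, ?_⟩
    have hnv : n * v * n⁻¹ = v := by
      rw [Subgroup.mem_centralizer_singleton_iff.1 (hg.le hn.1), mul_inv_cancel_right]
    have hs' := conj_mem_elemPart hn.2 (inv_mem hs)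
    have hvs : Commute v (n * s⁻¹ * n⁻¹ * s) := (hvC _ (hYS _ (mul_mem hs' hs))).symm
    have e : n * a * n⁻¹ * a⁻¹ = n * s⁻¹ * n⁻¹ * s := by
      calc n * a * n⁻¹ * a⁻¹ = (n * v * n⁻¹) * (n * s⁻¹ * n⁻¹ * s) * v⁻¹ := by rw [ha]; group
        _ = v * (n * s⁻¹ * n⁻¹ * s) * v⁻¹ := by rw [hnv]
        _ = n * s⁻¹ * n⁻¹ * s := by rw [hvs.eq, mul_inv_cancel_right]
    rw [e]
    exact mul_mem hs' hs
  have hout : ∀ t ∈ elemPart S, t ≠ s → Outer S L (a * t) := fun t ht hts => by
    refine ⟨mul_mem haS (hYS t ht), fun h => hts ?_, ?_⟩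
    · refine mul_inv_eq_one.1 (h₁ (t * s⁻¹) (mul_mem ht.1 (inv_mem hs.1)) ?_)
      have hvL : v ∈ Subgroup.centralizer (L : Set G) := Subgroup.mem_centralizer_iff.2 fun l hl =>
        Subgroup.mem_centralizer_singleton_iff.1 (hg.le hl)
      have e : a * t * v⁻¹ = t * s⁻¹ := by
        have hat : Commute a (t * s⁻¹) :=
          (haC _ (mul_mem (hYS t ht) (inv_mem (hYS s hs)))).symm
        calc a * t * v⁻¹ = a * (t * s⁻¹) * a⁻¹ := by rw [hv_eq]; group
          _ = t * s⁻¹ := by rw [hat.eq, mul_inv_cancel_right]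
      rw [← e]
      exact mul_mem h (inv_mem hvL)
    · have hat : Commute t a := haC t (hYS t ht)
      refine center_le_centralizer' L ?_
      have e : a * t * (a * t) = a * a * (t * t) := by
        calc a * t * (a * t) = a * (t * a) * t := by group
          _ = a * (a * t) * t := by rw [hat.eq]
          _ = a * a * (t * t) := by group
      rw [e, ht.2.2, mul_one, ha2]
      exact hv2
  have hmove : ∀ t ∈ elemPart S, t ≠ s → ∃ g ∈ P, g * a * g⁻¹ = a * t := by
    intro t ht hts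
    obtain ⟨n, hn, hnc⟩ := hg.trans (a * 1) (a * t) (hout 1 (one_mem _) (Ne.symm hs1)) (hout t ht hts)
    refine ⟨n, hP₁ n hn, ?_⟩
    rw [mul_one] at hnc
    have hy : n * a * n⁻¹ * a⁻¹ ∈ elemPart S := ((hP n).1 (hP₁ n hn)).2
    have e : n * a * n⁻¹ * (a * t)⁻¹ = (n * a * n⁻¹ * a⁻¹) * t⁻¹ := by
      have hat : Commute a t⁻¹ := (Commute.symm (show Commute t a from haC t (hYS t ht))).inv_right
      calc n * a * n⁻¹ * (a * t)⁻¹ = n * a * n⁻¹ * a⁻¹ * (a * t⁻¹ * a⁻¹) := by group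
        _ = n * a * n⁻¹ * a⁻¹ * t⁻¹ := by rw [hat.eq, mul_inv_cancel_right]
    rw [e] at hnc
    have h1 := mul_inv_eq_one.1 (h₁ _ (mul_mem hy.1 (inv_mem ht.1)) hnc)
    have h2 : n * a * n⁻¹ = t * a := by rw [← h1]; group
    rw [h2, haC t (hYS t ht)]
  obtain ⟨s', hs', hs'1, hs's⟩ : ∃ s' ∈ elemPart S, s' ≠ 1 ∧ s' ≠ s := by
    obtain ⟨y, y', hy, hy', hne⟩ := hg₀.two
    obtain ⟨t, ht, ht1, htc⟩ := hcov y hy
    obtain ⟨t', ht', ht1', htc'⟩ := hcov y' hy'
    by_cases hts : t = s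
    · refine ⟨t', ht', ht1', fun h => hne ?_⟩
      subst hts h
      have := mul_mem htc (inv_mem htc')
      simpa [mul_assoc] using this
    · exact ⟨t, ht, ht1, hts⟩
  have hall : ∀ t ∈ elemPart S, ∃ g ∈ P, g * a * g⁻¹ = a * t := by
    intro t ht
    by_cases hts : t = s
    · subst hts
      obtain ⟨g, hg', hge⟩ := hmove s' hs' hs's
      obtain ⟨n, hn, hnc⟩ := hg₀.trans s' t (hY₀ s' hs' hs'1) (hY₀ t hs hs1)
      have hns := mul_inv_eq_one.1
        (h₀ _ (mul_mem (conj_mem_commutator hn.2 hs'.1) (inv_mem hs.1)) hnc)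
      refine ⟨n * g, mul_mem (hP₀ n hn).2 hg', ?_⟩
      calc n * g * a * (n * g)⁻¹ = n * (g * a * g⁻¹) * n⁻¹ := by group
        _ = n * a * n⁻¹ * (n * s' * n⁻¹) := by rw [hge]; group
        _ = a * t := by rw [(hP₀ n hn).1, hns]
    · exact hmove t ht hts
  letI : MulAction ↥P G := MulAction.compHom G ((MulAut.conj (G := G)).comp P.subtype)
  have hsmul : ∀ (g : ↥P) (z : G), g • z = (g : G) * z * (g : G)⁻¹ := fun g z => rfl
  have horb : MulAction.orbit ↥P a = (fun t => a * t) '' (elemPart S : Set G) := by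
    ext z
    constructor
    · rintro ⟨g, rfl⟩
      have hy := ((hP g).1 g.2).2
      refine ⟨_, hy, ?_⟩
      show a * ((g : G) * a * (g : G)⁻¹ * a⁻¹) = g • a
      rw [hsmul, ← haC _ (hYS _ hy)]
      group
    · rintro ⟨t, ht, rfl⟩
      obtain ⟨g, hg', hge⟩ := hall t ht
      exact ⟨⟨g, hg'⟩, hge⟩
  have hSP : (S : Subgroup G) ≤ P := fun g hg' => (hP g).2 ⟨Subgroup.le_normalizer hg', by
    rw [haC g hg', mul_inv_cancel_right, mul_inv_cancel]; exact one_mem _⟩
  have h1 : (MulAction.stabilizer ↥P a).index ∣ (S : Subgroup G).index := by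
    refine (Subgroup.index_dvd_of_le (H := (S : Subgroup G).subgroupOf P) fun g hg' => ?_).trans
      ⟨P.index, (Subgroup.relIndex_mul_index hSP).symm⟩
    show (g : G) * a * (g : G)⁻¹ = a
    rw [haC g hg', mul_inv_cancel_right]
  have h2 : 2 ∣ (MulAction.stabilizer ↥P a).index := by
    rw [MulAction.index_stabilizer, horb,
      Set.ncard_image_of_injective _ (mul_right_injective a), ← Nat.card_coe_set_eq]
    have hord : orderOf s = 2 := orderOf_eq_prime (by rw [sq, hs.2.2]) hs1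
    exact hord ▸ Subgroup.orderOf_dvd_natCard _ hs
  haveI : Fact (Nat.Prime 2) := ⟨Nat.prime_two⟩
  exact S.not_dvd_index (h2.trans h1)

/-- The centralisers of the involutions modulo the centre normalise `S`. -/
theorem core_case (hP : PropPartOne.{u}) {S : Sylow 2 G} (hCI : CI G) (hfix : OddFix S)
    (hgen : Gen S) (hnS : ¬ (S : Subgroup G).Normal)
    (hnab : ¬ IsMulCommutative ↥(S : Subgroup G)) (hIH : Below S) {x : G}
    (hx : x ∈ (S : Subgroup G)) (hxz : x ∉ Subgroup.center G) (hx2 : x * x ∈ Subgroup.center G) :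
    Subgroup.centralizer ({x} : Set G) ≤ Subgroup.normalizer ((S : Subgroup G) : Set G) := by
  haveI : Fact (Nat.Prime 2) := ⟨Nat.prime_two⟩
  by_contra hnle
  obtain ⟨-, L₀, hg₀⟩ := exists_good hCI hIH hx hxz hnle
  have hxL₀ : x ∈ Subgroup.centralizer (L₀ : Set G) := Subgroup.mem_centralizer_iff.2 fun l hl =>
    Subgroup.mem_centralizer_singleton_iff.1 (hg₀.le hl)
  have hstep : ∀ i ∈ (S : Subgroup G), i ∉ Subgroup.center G → i * i ∈ Subgroup.center G →
      ¬ Subgroup.centralizer ({i} : Set G) ≤ Subgroup.normalizer ((S : Subgroup G) : Set G) →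
      Good S (Subgroup.centralizer ({i} : Set G)) L₀ := fun i hi hiz hi2 hin =>
    good_same hCI hIH hx hx2 hg₀ hi hiz (outer_centralizes hCI hIH hx hx2 hg₀ hi hiz hi2 hin)
  set M := Subgroup.normalizer (L₀ : Set G) with hM
  have hNM : Subgroup.normalizer ((S : Subgroup G) : Set G) ≤ M := by
    intro n hn
    have hcj : ∀ z : G, n * z * n⁻¹ ∈ Subgroup.center G → z ∈ Subgroup.center G := fun z hz => by
      have := Subgroup.Normal.conj_mem (inferInstance : (Subgroup.center G).Normal) _ hz n⁻¹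
      simpa [mul_assoc] using this
    have hin : ¬ Subgroup.centralizer ({n * x * n⁻¹} : Set G) ≤
        Subgroup.normalizer ((S : Subgroup G) : Set G) := by
      intro h
      refine hnle fun g hg => ?_
      have hgx := Subgroup.mem_centralizer_singleton_iff.1 hg
      have h1 : n * g * n⁻¹ ∈ Subgroup.normalizer ((S : Subgroup G) : Set G) :=
        h (Subgroup.mem_centralizer_singleton_iff.2 (by
          calc n * g * n⁻¹ * (n * x * n⁻¹) = n * (g * x) * n⁻¹ := by group
            _ = n * (x * g) * n⁻¹ := by rw [hgx]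
            _ = n * x * n⁻¹ * (n * g * n⁻¹) := by group))
      have h2 := mul_mem (mul_mem (inv_mem hn) h1) hn
      simpa [mul_assoc] using h2
    have hg' := hstep (n * x * n⁻¹) ((Subgroup.mem_normalizer_iff.1 hn x).1 hx)
      (fun h => hxz (hcj x h)) (by
        rw [show n * x * n⁻¹ * (n * x * n⁻¹) = n * (x * x) * n⁻¹ by group]
        exact Subgroup.Normal.conj_mem inferInstance _ hx2 n) hin
    refine mem_normalizer_of_conj_mem _ (hg'.conj_le hg₀.perfect fun l hl => ?_)
    refine Subgroup.mem_centralizer_singleton_iff.2 ?_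
    have hlx := Subgroup.mem_centralizer_singleton_iff.1 (hg₀.le hl)
    calc n * l * n⁻¹ * (n * x * n⁻¹) = n * (l * x) * n⁻¹ := by group
      _ = n * (x * l) * n⁻¹ := by rw [hlx]
      _ = n * x * n⁻¹ * (n * l * n⁻¹) := by group
  have hne : M ≠ ⊤ := by
    intro htop
    haveI : L₀.Normal := Subgroup.normalizer_eq_top_iff.1 htop
    set C₀ := Subgroup.centralizer (L₀ : Set G) with hC₀
    set A := (S : Subgroup G) ⊓ C₀ with hA
    haveI hC₀n : C₀.Normal := inferInstance
    have hAinv : ∀ c ∈ C₀, ∀ a ∈ A, c * a * c⁻¹ ∈ A := by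
      intro c hc a ha
      refine ⟨?_, hC₀n.conj_mem a ha.2 c⟩
      by_cases hcS : c • S = S
      · exact (Subgroup.mem_normalizer_iff.1 (Sylow.smul_eq_iff_mem_normalizer.1 hcS) a).1 ha.1
      · exfalso
        have hle : (S : Subgroup G) ≤ Subgroup.centralizer ((S : Subgroup G) : Set G) := by
          refine hg₀.sylow_le.trans (sup_le ?_ ?_)
          · exact fun b hb => Subgroup.mem_centralizer_iff.2 (hg₀.cent_of_centralizes hCI hb.1 hb.2)
          · intro b hb
            refine Subgroup.mem_centralizer_iff.2 (hCI S (c • S) (Ne.symm hcS) b hb.1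
              (mem_conj_sylow.2 ?_))
            have hcb : b * c = c * b := Subgroup.mem_centralizer_iff.1 hc b hb.2
            rw [show c⁻¹ * b * c = c⁻¹ * (b * c) by group, hcb, inv_mul_cancel_left]
            exact hb.1
        exact hnab (Subgroup.le_centralizer_iff_isMulCommutative.1 hle)
    have hSA : (S : Subgroup G) ⊔ C₀ ≤ Subgroup.normalizer (A : Set G) :=
      sup_le (fun g hg => mem_normalizer_of_conj_mem _ fun a ha =>
        ⟨(S : Subgroup G).mul_mem ((S : Subgroup G).mul_mem hg ha.1) ((S : Subgroup G).inv_mem hg),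
          hC₀n.conj_mem a ha.2 g⟩)
        fun c hc => mem_normalizer_of_conj_mem _ (hAinv c hc)
    haveI : A.Normal := ⟨fun a ha g => by
      have hz : g * a * g⁻¹ ∈ C₀ := hC₀n.conj_mem a ha.2 g
      obtain ⟨k, hk⟩ := exists_pow_two_pow S ha.1
      obtain ⟨h, hh, hhz⟩ := exists_conj_into S (H := (S : Subgroup G) ⊔ C₀) le_sup_left
        (Subgroup.mem_sup_right hz) (k := k) (by rw [conj_pow, hk, mul_one, mul_inv_cancel])
      have := (Subgroup.mem_normalizer_iff.1 (hSA (Subgroup.inv_mem _ hh)) _).1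
        (show h * (g * a * g⁻¹) * h⁻¹ ∈ A from ⟨hhz, hC₀n.conj_mem _ hz h⟩)
      simpa [mul_assoc] using this⟩
    have hA2 : IsPGroup 2 ↥A := S.isPGroup'.to_le inf_le_left
    exact hxz (two_le_center hgen hCI hnS A hA2 ⟨hx, hxL₀⟩)
  have hSE := stronglyEmbedded_map hCI S M hNM hne ⟨x, hx, hxz⟩ fun i hi hiz hi2 => by
    by_cases hin : Subgroup.centralizer ({i} : Set G) ≤ Subgroup.normalizer ((S : Subgroup G) : Set G)
    · exact hin.trans hNM
    · exact (hstep i hi hiz hi2 hin).le_normalizer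
  obtain ⟨-, -, hMle⟩ := bender_outcome hP BenderSuzuki.propMain S M
    (Subgroup.le_normalizer.trans hNM) hSE (oddCore_quotient_eq_bot hgen hfix)
    (center_quotient_eq_bot hgen hCI hfix hnS) hgen
  exact hg₀.not_le (Subgroup.le_normalizer.trans hMle)

end Cfsg.Agent.Lib.CentralInt88
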