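import Cfsg.Agent.Lib.GWConsumers12.CoverSL2
import Cfsg.Agent.Lib.Unitary.Generation
import Cfsg.Agent.Lib.Unitary.Transvection
import Cfsg.Agent.S2089

/-!
# Perfect central extensions of `PSU(3, 2^n)`
-/

set_option autoImplicit false
set_option linter.style.haveILetI false

namespace Cfsg.Agent.Lib.CentralInt88

open Cfsg.Agent.Lib.GWConsumers12

universe u

/-- A perfect central extension of `PSU(3,2^n)` is `PSU(3,2^n)` or `SU(3,2^n)`. -/
theorem nonempty_equiv_unitary {L : Type u} [Group L] [Finite L] (hL : commutator L = ⊤)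
    {F : Type} [Field F] [Fintype F] {n : ℕ} (hn : 2 ≤ n) (hF : Fintype.card F = (2 ^ n) ^ 2)
    (σ : L →* Cfsg.PSU 3 F (2 ^ n)) (hs : Function.Surjective σ)
    (hc : σ.ker ≤ Subgroup.center L) :
    Nonempty (L ≃* Cfsg.PSU 3 F (2 ^ n)) ∨ Nonempty (L ≃* ↥(Cfsg.SU 3 F (2 ^ n))) := by
  classical
  have h4 : 4 ≤ 2 ^ n := by
    calc 4 = 2 ^ 2 := rfl
      _ ≤ 2 ^ n := Nat.pow_le_pow_right two_pos hn
  have hperf : commutator ↥(Cfsg.SU 3 F (2 ^ n)) = ⊤ :=
    Unitary.commutator_SU hF le_rfl (by omega)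
  let υ₀ : ↥(Cfsg.SU 3 F (2 ^ n)) →* Cfsg.PSU 3 F (2 ^ n) := QuotientGroup.mk' _
  have hυ₀ : Function.Surjective υ₀ := QuotientGroup.mk'_surjective _
  have hQ : commutator (Cfsg.PSU 3 F (2 ^ n)) = ⊤ := by
    rw [commutator_def, ← Subgroup.map_top_of_surjective υ₀ hυ₀, ← Subgroup.map_commutator,
      ← commutator_def, hperf]
  obtain ⟨U, _, _, π, hUp, hπ, hπc, huniv⟩ :=
    Cfsg.Agent.Lib.Multiplier.exists_universal.{0, u} (Cfsg.PSU 3 F (2 ^ n)) hQ
  have hst : Cfsg.IsStemExtension π := ⟨hπ, hπc, by rw [hUp]; exact le_top⟩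
  obtain ⟨p, hp⟩ := (Cfsg.Agent.S2089.result 3 (2 ^ n) hF le_rfl (by omega) (by simp)).2 U π hst
  haveI : IsCyclic π.ker := isCyclic_of_surjective p hp
  have hdvdπ : Nat.card π.ker ∣ Nat.gcd 3 (2 ^ n + 1) := by
    have := Subgroup.card_dvd_of_surjective p hp
    rwa [Nat.card_congr Multiplicative.toAdd, Nat.card_zmod] at this
  obtain ⟨η, hη, -⟩ := huniv L σ hs hc
  have sη : Function.Surjective η := lift_surjective_of_perfect hL η σ hc (by rw [hη]; exact hπ)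
  have hdvd : Nat.card σ.ker ∣ Nat.card π.ker := by
    have h1 := Subgroup.card_dvd_of_surjective η sη
    rw [card_dom π hπ, card_dom σ hs] at h1
    exact (Nat.mul_dvd_mul_iff_right Nat.card_pos).1 h1
  rcases (Nat.dvd_prime Nat.prime_three).1 ((hdvd.trans hdvdπ).trans (Nat.gcd_dvd_left _ _)) with h1 | h3
  · exact .inl ⟨MulEquiv.ofBijective σ
      ⟨(MonoidHom.ker_eq_bot_iff σ).1 (Subgroup.eq_bot_of_card_eq _ h1), hs⟩⟩
  · right
    let ε : ULift.{u} ↥(Cfsg.SU 3 F (2 ^ n)) ≃* ↥(Cfsg.SU 3 F (2 ^ n)) := MulEquiv.ulift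
    let υ := υ₀.comp ε.toMonoidHom
    have hυc : υ.ker ≤ Subgroup.center (ULift.{u} ↥(Cfsg.SU 3 F (2 ^ n))) := by
      intro y hy
      have hm : ε y ∈ Subgroup.center ↥(Cfsg.SU 3 F (2 ^ n)) := (QuotientGroup.eq_one_iff _).1 hy
      rw [Subgroup.mem_center_iff] at hm ⊢
      intro z
      exact ε.injective (by rw [map_mul, map_mul]; exact hm _)
    obtain ⟨θ, hθ, -⟩ := huniv _ υ (hυ₀.comp ε.surjective) hυc
    have hperf' : commutator (ULift.{u} ↥(Cfsg.SU 3 F (2 ^ n))) = ⊤ := by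
      rw [commutator_def, ← Subgroup.map_top_of_surjective ε.symm.toMonoidHom ε.symm.surjective,
        ← Subgroup.map_commutator, ← commutator_def, hperf]
    have hgcd : Nat.gcd 3 (2 ^ n + 1) = 3 :=
      Nat.dvd_antisymm (Nat.gcd_dvd_left _ _) ((dvd_of_eq h3.symm).trans (hdvd.trans hdvdπ))
    obtain ⟨r⟩ := nonempty_equiv_of_universal π hL σ hc hperf' υ hυc hπ
      (by
        rw [card_dom σ hs, h3, Nat.card_congr (ε.toEquiv), card_dom υ₀ hυ₀,
          QuotientGroup.ker_mk', Unitary.card_center_SU hF (by norm_num), hgcd])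
      η hη θ hθ
    exact ⟨r.trans ε⟩

end Cfsg.Agent.Lib.CentralInt88
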