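import Cfsg.Agent.Lib.CentralInt88.Basic

/-!
# The component seen by a subgroup containing the Sylow 2-subgroup
-/

set_option autoImplicit false
set_option linter.style.haveILetI false
set_option linter.unusedSectionVars false

namespace Cfsg.Agent.Lib.CentralInt88

open Cfsg.Agent.Lib.Inv59.Basic
open scoped commutatorElement

universe u

variable {G : Type u} [Group G] [Finite G]

/-- An element of `S` of order two modulo the part of `S` centralising `L`. -/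
def Outer (S : Sylow 2 G) (L : Subgroup G) (y : G) : Prop :=
  y ∈ (S : Subgroup G) ∧ y ∉ Subgroup.centralizer (L : Set G) ∧
    y * y ∈ Subgroup.centralizer (L : Set G)

/-- `L` is the perfect part of `H ≥ S`, and `S` sits in it like the Sylow 2-subgroup of a Bender
group modulo the centraliser. -/
structure Good (S : Sylow 2 G) (H L : Subgroup G) : Prop where
  le : L ≤ H
  le_normalizer : H ≤ Subgroup.normalizer (L : Set G)
  perfect : ⁅L, L⁆ = L
  residual : ∀ R : Subgroup G, R ≤ H → ⁅R, R⁆ = R → R ≤ L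
  sylow_le : (S : Subgroup G) ≤
    ((S : Subgroup G) ⊓ Subgroup.centralizer (L : Set G)) ⊔ ((S : Subgroup G) ⊓ L)
  not_le : ¬ L ≤ Subgroup.normalizer ((S : Subgroup G) : Set G)
  cent : ∀ y, Outer S L y →
    L ⊓ Subgroup.centralizer ({y} : Set G) ≤ Subgroup.normalizer ((S : Subgroup G) : Set G)
  trans : ∀ y y', Outer S L y → Outer S L y' →
    ∃ n ∈ L ⊓ Subgroup.normalizer ((S : Subgroup G) : Set G),
      n * y * n⁻¹ * y'⁻¹ ∈ Subgroup.centralizer (L : Set G)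
  two : ∃ y y', Outer S L y ∧ Outer S L y' ∧ y * y'⁻¹ ∉ Subgroup.centralizer (L : Set G)
  central : (∃ y, Outer S L y ∧ Cent S y) →
    (∀ c ∈ ⁅(S : Subgroup G), (S : Subgroup G)⁆, c ∈ Subgroup.centralizer (L : Set G) → c = 1) ∧
      ¬ ⁅(S : Subgroup G), (S : Subgroup G)⁆ ≤ Subgroup.centralizer (L : Set G)

/-- The part of `S` centralising `L` is central in `S`. -/
theorem Good.cent_of_centralizes {S : Sylow 2 G} {H L : Subgroup G} (hg : Good S H L) (hCI : CI G)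
    {a : G} (ha : a ∈ (S : Subgroup G)) (hac : a ∈ Subgroup.centralizer (L : Set G)) : Cent S a := by
  haveI : Fact (Nat.Prime 2) := ⟨Nat.prime_two⟩
  obtain ⟨l, hl, hlN⟩ := SetLike.not_le_iff_exists.1 hg.not_le
  refine hCI S (l • S) (fun h => hlN (Sylow.smul_eq_iff_mem_normalizer.1 h.symm)) a ha
    (mem_conj_sylow.2 ?_)
  have hc : l * a = a * l := Subgroup.mem_centralizer_iff.1 hac l hl
  rw [show l⁻¹ * a * l = l⁻¹ * (a * l) by group, ← hc, inv_mul_cancel_left]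
  exact ha

/-- A conjugate of a perfect subgroup lying in `H` lies in `L`. -/
theorem Good.conj_le {S : Sylow 2 G} {H L L' : Subgroup G} (hg : Good S H L) (hp : ⁅L', L'⁆ = L')
    {g : G} (hle : ∀ x ∈ L', g * x * g⁻¹ ∈ H) : ∀ x ∈ L', g * x * g⁻¹ ∈ L := by
  intro x hx
  have h := hg.residual (L'.map (MulAut.conj g).toMonoidHom)
    (by rintro _ ⟨y, hy, rfl⟩; exact hle y hy)
    (by rw [← Subgroup.map_commutator, hp])
  exact h ⟨x, hx, rfl⟩

theorem mem_normalizer_subtype {S : Sylow 2 G} {H : Subgroup G} (hH : (S : Subgroup G) ≤ H)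
    (n : ↥H) : n ∈ Subgroup.normalizer (((S.subtype hH : Sylow 2 ↥H) : Subgroup ↥H) : Set ↥H) ↔
      (n : G) ∈ Subgroup.normalizer ((S : Subgroup G) : Set G) := by
  constructor
  · intro h
    refine mem_normalizer_of_conj_mem _ fun x hx => ?_
    exact (Subgroup.mem_normalizer_iff.1 h ⟨x, hH hx⟩).1 hx
  · intro h
    refine mem_normalizer_of_conj_mem _ fun x hx => ?_
    exact (Subgroup.mem_normalizer_iff.1 h x).1 hx

theorem map_commutator_subtype {S : Sylow 2 G} {H : Subgroup G} (hH : (S : Subgroup G) ≤ H) :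
    (⁅((S.subtype hH : Sylow 2 ↥H) : Subgroup ↥H), ((S.subtype hH : Sylow 2 ↥H) : Subgroup ↥H)⁆ :
      Subgroup ↥H).map H.subtype = ⁅(S : Subgroup G), (S : Subgroup G)⁆ := by
  rw [Subgroup.map_commutator, Sylow.coe_subtype, Subgroup.map_subgroupOf_eq_of_le hH]

/-- Good data inside a subgroup give good data for that subgroup. -/
theorem Good.map_subtype {S : Sylow 2 G} {H : Subgroup G} (hH : (S : Subgroup G) ≤ H)
    {L : Subgroup ↥H} (hg : Good (S.subtype hH) ⊤ L) : Good S H (L.map H.subtype) := by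
  have hC : ∀ y : ↥H, (y : G) ∈ Subgroup.centralizer ((L.map H.subtype : Subgroup G) : Set G) ↔
      y ∈ Subgroup.centralizer (L : Set ↥H) := fun y => by
    constructor
    · intro h
      exact Subgroup.mem_centralizer_iff.2 fun l hl => Subtype.ext
        (Subgroup.mem_centralizer_iff.1 h l ⟨l, hl, rfl⟩)
    · intro h
      refine Subgroup.mem_centralizer_iff.2 ?_
      rintro _ ⟨l, hl, rfl⟩
      exact congrArg Subtype.val (Subgroup.mem_centralizer_iff.1 h l hl)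
  have hout : ∀ y : G, Outer S (L.map H.subtype) y →
      ∃ y₀ : ↥H, (y₀ : G) = y ∧ Outer (S.subtype hH) L y₀ := fun y hy =>
    ⟨⟨y, hH hy.1⟩, rfl, hy.1, fun h => hy.2.1 ((hC _).2 h), (hC (⟨y, hH hy.1⟩ * ⟨y, hH hy.1⟩)).1 hy.2.2⟩
  have hout' : ∀ y : ↥H, Outer (S.subtype hH) L y → Outer S (L.map H.subtype) y := fun y hy =>
    ⟨hy.1, fun h => hy.2.1 ((hC y).1 h), (hC (y * y)).2 hy.2.2⟩
  refine ⟨Subgroup.map_subtype_le _, ?_, by rw [← Subgroup.map_commutator, hg.perfect], ?_, ?_, ?_,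
    ?_, ?_, ?_, ?_⟩
  · intro h hh
    refine mem_normalizer_of_conj_mem _ ?_
    rintro _ ⟨l, hl, rfl⟩
    exact ⟨⟨h, hh⟩ * l * ⟨h, hh⟩⁻¹,
      (Subgroup.mem_normalizer_iff.1 (hg.le_normalizer (Subgroup.mem_top ⟨h, hh⟩)) l).1 hl, rfl⟩
  · intro R hR hp
    have h := hg.residual (R.subgroupOf H) le_top (by
      refine Subgroup.map_injective H.subtype_injective ?_
      rw [Subgroup.map_commutator, Subgroup.map_subgroupOf_eq_of_le hR, hp])
    intro x hx
    exact ⟨⟨x, hR hx⟩, h hx, rfl⟩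
  · intro s hs
    have h := Subgroup.mem_map_of_mem H.subtype (hg.sylow_le (x := ⟨s, hH hs⟩) hs)
    rw [Subgroup.map_sup] at h
    refine SetLike.le_def.1 (sup_le_sup ?_ ?_) h
    · rintro _ ⟨a, ⟨ha, hac⟩, rfl⟩; exact ⟨ha, (hC a).2 hac⟩
    · rintro _ ⟨a, ⟨ha, hal⟩, rfl⟩; exact ⟨ha, ⟨a, hal, rfl⟩⟩
  · intro h
    exact hg.not_le fun l hl => (mem_normalizer_subtype hH l).2 (h ⟨l, hl, rfl⟩)
  · rintro y hy _ ⟨⟨l, hl, rfl⟩, hlc⟩
    obtain ⟨y₀, rfl, hy₀⟩ := hout y hy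
    exact (mem_normalizer_subtype hH l).1 (hg.cent y₀ hy₀ ⟨hl,
      Subgroup.mem_centralizer_singleton_iff.2 (Subtype.ext
        (Subgroup.mem_centralizer_singleton_iff.1 hlc))⟩)
  · intro y y' hy hy'
    obtain ⟨y₀, rfl, hy₀⟩ := hout y hy
    obtain ⟨y₁, rfl, hy₁⟩ := hout y' hy'
    obtain ⟨n, ⟨hnL, hnN⟩, hn⟩ := hg.trans y₀ y₁ hy₀ hy₁
    exact ⟨n, ⟨⟨n, hnL, rfl⟩, (mem_normalizer_subtype hH n).1 hnN⟩, (hC _).2 hn⟩
  · obtain ⟨y, y', hy, hy', hne⟩ := hg.two
    exact ⟨y, y', hout' y hy, hout' y' hy', fun h => hne ((hC (y * y'⁻¹)).1 h)⟩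
  · rintro ⟨y, hy, hc⟩
    obtain ⟨y₀, rfl, hy₀⟩ := hout y hy
    obtain ⟨h1, h2⟩ := hg.central ⟨y₀, hy₀, fun s hs => Subtype.ext (hc s hs)⟩
    rw [← map_commutator_subtype hH]
    refine ⟨?_, fun h => h2 fun c hc' => (hC c).1 (h ⟨c, hc', rfl⟩)⟩
    rintro _ ⟨c, hc', rfl⟩ hcc
    exact congrArg Subtype.val (h1 c hc' ((hC c).1 hcc))

end Cfsg.Agent.Lib.CentralInt88
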