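import Cfsg.Agent.Lib.CentralInt88.Basic
import Cfsg.Agent.Lib.Schur.Universe
import Cfsg.Agent.Lib.Linear.Unipotent
import Cfsg.Agent.Lib.LieTwisted.SuzukiBruhat
import Cfsg.Agent.S0330

/-!
# Sylow 2-subgroups of the three families, and kernels of stem extensions
-/

set_option autoImplicit false
set_option linter.style.haveILetI false
set_option linter.unusedSectionVars false

namespace Cfsg.Agent.Lib.CentralInt88

open scoped Pointwise

universe u v


variable {X : Type u} [Group X] [Finite X]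

omit [Finite X] in
theorem ker_card_dvd {A : Type v} [CommGroup A] (h : Cfsg.HasSchurMultiplier X A) {Γ : Type u}
    [Group Γ] [Finite Γ] (σ : Γ →* X) (hσ : Cfsg.IsStemExtension σ) :
    Nat.card σ.ker ∣ Nat.card A := by
  obtain ⟨p, hp⟩ := h.2 Γ σ hσ
  exact Subgroup.card_dvd_of_surjective p hp

/-- A Sylow 2-subgroup of `PSL(2,2^n)` is elementary abelian of order `2^n`. -/
theorem sylow_linear {F : Type} [Field F] [Fintype F] {n : ℕ} (hF : Fintype.card F = 2 ^ n)
    (e : X ≃* Matrix.ProjectiveSpecialLinearGroup (Fin 2) F) (T : Sylow 2 X) :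
    (∀ t ∈ (T : Subgroup X), t * t = 1) ∧ Nat.card ↥(T : Subgroup X) = 2 ^ n := by
  classical
  haveI : Fact (Nat.Prime 2) := ⟨Nat.prime_two⟩
  haveI : CharP F 2 := charP_of_card_eq_prime_pow hF
  have hc : Subgroup.center (Matrix.SpecialLinearGroup (Fin 2) F) = ⊥ := by
    rw [Subgroup.eq_bot_iff_forall]
    intro g hg
    obtain ⟨r, hr, hrg⟩ := Matrix.SpecialLinearGroup.mem_center_iff.1 hg
    have hr1 : r = 1 := by
      rw [Fintype.card_fin] at hr
      have h2 : (r - 1) ^ 2 = 0 := by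
        rw [sub_eq_add_neg, CharTwo.neg_eq, add_pow_char, hr, one_pow, CharTwo.add_self_eq_zero]
      exact sub_eq_zero.1 (pow_eq_zero_iff two_ne_zero |>.1 h2)
    refine Subtype.ext ?_
    rw [← hrg, hr1, map_one]
    rfl
  let σ : Matrix.SpecialLinearGroup (Fin 2) F →* X :=
    e.symm.toMonoidHom.comp (QuotientGroup.mk' _)
  have hs : Function.Surjective σ := e.symm.surjective.comp (QuotientGroup.mk'_surjective _)
  have hinj : Function.Injective σ := by
    refine e.symm.injective.comp ?_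
    rw [← MonoidHom.ker_eq_bot_iff, QuotientGroup.ker_mk']
    exact hc
  obtain ⟨P, rfl⟩ := exists_pullback hs T
  obtain ⟨g, hg⟩ := Cfsg.Agent.Lib.Linear.exists_sylow_eq_conj_SL 2 P
  rw [Sylow.coe_mapSurjective]
  constructor
  · rintro _ ⟨t, ht, rfl⟩
    rw [hg, SetLike.mem_coe, Subgroup.mem_pointwise_smul_iff_inv_smul_mem] at ht
    obtain ⟨a, ha⟩ := ht
    have ha' : t = g * Cfsg.Agent.Lib.Linear.uSL a * g⁻¹ := by
      rw [ha]; simp [MulAut.smul_def, mul_assoc]
    rw [← map_mul, ha', show g * Cfsg.Agent.Lib.Linear.uSL a * g⁻¹ *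
        (g * Cfsg.Agent.Lib.Linear.uSL a * g⁻¹) = g * Cfsg.Agent.Lib.Linear.uSL (a * a) * g⁻¹ by
      rw [map_mul]; group]
    have haa : a * a = 1 := Multiplicative.toAdd.injective (CharTwo.add_self_eq_zero a.toAdd)
    rw [haa, map_one, mul_one, mul_inv_cancel, map_one]
  · rw [Subgroup.card_map_of_injective hinj, hg, ← Nat.card_congr (Subgroup.equivSMul (MulAut.conj g) _).toEquiv,
      Cfsg.Agent.Lib.Linear.card_range_uSL, Nat.card_eq_fintype_card, hF]

/-- A Sylow 2-subgroup of a Suzuki group: order `q²`, exponent four, derived group of order `q`. -/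
theorem sylow_suzuki {F : Type} [Field F] [Fintype F] {m : ℕ} (hm : 1 ≤ m)
    (hF : Fintype.card F = 2 ^ (2 * m + 1)) (e : X ≃* ↥(Cfsg.Lie.Sz F (2 ^ (m + 1))))
    (T : Sylow 2 X) :
    Nat.card ↥(T : Subgroup X) = (2 ^ (2 * m + 1)) ^ 2 ∧ (∀ t ∈ (T : Subgroup X), t ^ 4 = 1) ∧
      Nat.card ↥(⁅(T : Subgroup X), (T : Subgroup X)⁆ : Subgroup X) = 2 ^ (2 * m + 1) := by
  classical
  haveI : Fact (Nat.Prime 2) := ⟨Nat.prime_two⟩
  let ê : X ≃* Cfsg.Sz F m := e.trans (LieTwisted.Suzuki.szEquiv ⟨hF⟩ hm).symm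
  have hs : Function.Surjective ê.toMonoidHom := ê.surjective
  obtain ⟨h1, h2, h3, h4⟩ := Cfsg.Agent.S0330.result hm hF (T.mapSurjective hs)
  rw [Sylow.coe_mapSurjective] at h1 h2 h3 h4
  refine ⟨?_, fun t ht => ?_, ?_⟩
  · rwa [Subgroup.card_map_of_injective (f := ê.toMonoidHom) ê.injective] at h1
  · refine ê.injective ?_
    have h := Monoid.pow_exponent_eq_one
      (⟨ê t, t, ht, rfl⟩ : ↥((T : Subgroup X).map ê.toMonoidHom))
    rw [h2] at h
    rw [map_pow, map_one]
    exact congrArg Subtype.val h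
  · rw [← Subgroup.card_map_of_injective (f := ê.toMonoidHom) ê.injective, Subgroup.map_commutator,
      ← h4, h3]
    rw [commutator_def, ← Subgroup.card_map_of_injective
      ((T : Subgroup X).map ê.toMonoidHom).subtype_injective, Subgroup.map_commutator,
      ← MonoidHom.range_eq_map, Subgroup.range_subtype]

end Cfsg.Agent.Lib.CentralInt88
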