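import Cfsg.Agent.Lib.CentralInt88.Top
import Cfsg.Agent.S0205

/-!
# The dichotomy: normal Sylow 2-subgroup or good data
-/

set_option autoImplicit false
set_option linter.style.haveILetI false
set_option linter.unusedSectionVars false

namespace Cfsg.Agent.Lib.CentralInt88

open Cfsg.Agent.Lib.Inv59.Basic
open Cfsg.Agent.Lib.BenderConsumers23
open scoped commutatorElement

universe u

variable {G : Type u} [Group G] [Finite G]

theorem OddFix.subgroup {S : Sylow 2 G} (hfix : OddFix S) {H : Subgroup G}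
    (hH : (S : Subgroup G) ≤ H) : OddFix (S.subtype hH) := by
  intro X hX hSX s hs
  have h1 : Odd (Nat.card ↥(X.map H.subtype)) := by
    rwa [Subgroup.card_map_of_injective H.subtype_injective]
  have h2 : (S : Subgroup G) ≤ Subgroup.normalizer ((X.map H.subtype : Subgroup G) : Set G) := by
    intro t ht
    refine mem_normalizer_of_conj_mem _ ?_
    rintro _ ⟨x, hx, rfl⟩
    exact ⟨⟨t, hH ht⟩ * x * ⟨t, hH ht⟩⁻¹,
      (Subgroup.mem_normalizer_iff.1 (hSX (x := ⟨t, hH ht⟩) ht) x).1 hx, rfl⟩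
  exact Subgroup.mem_centralizer_iff.2 fun x hx => Subtype.ext
    (Subgroup.mem_centralizer_iff.1 (hfix _ h1 h2 hs) x ⟨x, hx, rfl⟩)

theorem not_comm_subtype {S : Sylow 2 G} (hnab : ¬ IsMulCommutative ↥(S : Subgroup G))
    {H : Subgroup G} (hH : (S : Subgroup G) ≤ H) :
    ¬ IsMulCommutative ↥((S.subtype hH : Sylow 2 ↥H) : Subgroup ↥H) := by
  intro h
  refine hnab (Subgroup.le_centralizer_iff_isMulCommutative.1 fun s hs => ?_)
  refine Subgroup.mem_centralizer_iff.2 fun t ht => ?_
  exact congrArg Subtype.val (Subgroup.mem_centralizer_iff.1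
    (Subgroup.le_centralizer_iff_isMulCommutative.2 h (x := ⟨s, hH hs⟩) hs) ⟨t, hH ht⟩ ht)

/-- A normal subgroup containing `S` contains every perfect subgroup. -/
theorem perfect_le_of_sylow_le (S : Sylow 2 G) (K : Subgroup G) [K.Normal]
    (hK : (S : Subgroup G) ≤ K) {R : Subgroup G} (hR : ⁅R, R⁆ = R) : R ≤ K := by
  haveI : Fact (Nat.Prime 2) := ⟨Nat.prime_two⟩
  have hodd : Odd (Nat.card (G ⧸ K)) := by
    rw [← Subgroup.index_eq_card]
    refine Nat.not_even_iff_odd.1 fun h => S.not_dvd_index ?_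
    exact (even_iff_two_dvd.1 h).trans (Subgroup.index_dvd_of_le hK)
  haveI : Group.IsSolvable (G ⧸ K) := Cfsg.Agent.S0205.result hodd
  have hR' : R.map (QuotientGroup.mk' K) = ⊥ := by
    by_contra h
    have h1 := Group.IsSolvable.commutator_lt_of_ne_bot h
    rw [← Subgroup.map_commutator, hR] at h1
    exact lt_irrefl _ h1
  intro r hr
  exact (QuotientGroup.eq_one_iff r).1
    (Subgroup.mem_bot.1 (hR' ▸ Subgroup.mem_map_of_mem (QuotientGroup.mk' K) hr))

theorem normal_of_le_normalizer (S : Sylow 2 G) (K : Subgroup G) [K.Normal]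
    (hK : (S : Subgroup G) ≤ K) (h : K ≤ Subgroup.normalizer ((S : Subgroup G) : Set G)) :
    (S : Subgroup G).Normal := by
  haveI : Fact (Nat.Prime 2) := ⟨Nat.prime_two⟩
  refine ⟨fun x hx g => ?_⟩
  obtain ⟨k, hk⟩ := exists_pow_two_pow S hx
  exact mem_sylow_of_normalizer S k (by rw [conj_pow, hk, mul_one, mul_inv_cancel])
    (h (Subgroup.Normal.conj_mem inferInstance x (hK hx) g))

theorem dichotomy_aux (hP : PropPartOne.{u}) : ∀ (n : ℕ) (G : Type u) [Group G] [Finite G],
    Nat.card G = n → ∀ S : Sylow 2 G, CI G → OddFix S → ¬ IsMulCommutative ↥(S : Subgroup G) →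
      (S : Subgroup G).Normal ∨ ∃ L, Good S ⊤ L := by
  intro n
  induction n using Nat.strong_induction_on with
  | _ n ih =>
  intro G _ _ hn S hCI hfix hnab
  by_cases hnS : (S : Subgroup G).Normal
  · exact Or.inl hnS
  right
  have hbelow : Below S := by
    intro H hH hne
    have hlt : Nat.card H < n := hn ▸ lt_of_le_of_ne (Subgroup.card_le_card_group H)
      (mt (Subgroup.card_eq_iff_eq_top H).1 hne)
    rcases ih _ hlt ↥H rfl (S.subtype hH) (hCI.subgroup H) (hfix.subgroup hH)
      (not_comm_subtype hnab hH) with hN | ⟨L, hL⟩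
    · left
      intro h hh
      exact (mem_normalizer_subtype hH ⟨h, hh⟩).1
        (Subgroup.normalizer_eq_top_iff.2 hN ▸ Subgroup.mem_top _)
    · exact Or.inr ⟨_, hL.map_subtype hH⟩
  set K := Subgroup.normalClosure ((S : Subgroup G) : Set G) with hK
  have hSK : (S : Subgroup G) ≤ K := Subgroup.subset_normalClosure
  by_cases hKtop : K = ⊤
  · refine ⟨_, gen_case hP hCI hfix (fun L _ hSL => ?_) hnS hnab hbelow⟩
    exact top_le_iff.1 (hKtop ▸ Subgroup.normalClosure_le_normal hSL)
  · rcases hbelow K hSK hKtop with hle | ⟨L, hL⟩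
    · exact absurd (normal_of_le_normalizer S K hSK hle) hnS
    refine ⟨L, le_top, fun g _ => mem_normalizer_of_conj_mem _ (hL.conj_le hL.perfect fun x hx =>
      Subgroup.Normal.conj_mem Subgroup.normalClosure_normal x (hL.le hx) g), hL.perfect,
      fun R _ hR => hL.residual R (perfect_le_of_sylow_le S K hSK hR) hR, hL.sylow_le, hL.not_le,
      hL.cent, hL.trans, hL.two, hL.central⟩

/-- Either `S` is normal or the group has good data. -/
theorem dichotomy (hP : PropPartOne.{u}) (S : Sylow 2 G) (hCI : CI G) (hfix : OddFix S)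
    (hnab : ¬ IsMulCommutative ↥(S : Subgroup G)) :
    (S : Subgroup G).Normal ∨ ∃ L, Good S ⊤ L :=
  dichotomy_aux hP _ G rfl S hCI hfix hnab

end Cfsg.Agent.Lib.CentralInt88
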