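import Cfsg.Agent.Lib.CentralInt88.Top
import Cfsg.Agent.Lib.CentralInt88.Covers
import Cfsg.Agent.Lib.Linear.SmallIso.PSL5
import Cfsg.Agent.S0252
import Cfsg.Agent.S2086

/-!
# The structure of the generated case
-/

set_option autoImplicit false
set_option linter.style.haveILetI false
set_option linter.unusedSectionVars false

namespace Cfsg.Agent.Lib.CentralInt88

open Cfsg.Agent.Lib.Inv59.Basic
open Cfsg.Agent.Lib.BenderConsumers23 Cfsg.Agent.Lib.BenderSuzuki
open scoped commutatorElement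

universe u

variable {G : Type u} [Group G] [Finite G]

local notation "πZ" => QuotientGroup.mk' (Subgroup.center G)

theorem ker_equiv_comp {A B C : Type*} [Group A] [Group B] [Group C] (e : B ≃* C) (f : A →* B) :
    (e.toMonoidHom.comp f).ker = f.ker := by
  ext x
  exact e.map_eq_one_iff

/-- What is known in the generated case. -/
structure GenOut (S : Sylow 2 G) : Prop where
  nab : ¬ IsMulCommutative ↥(S : Subgroup G)
  gen : Gen S
  zbot : Subgroup.center (G ⧸ Subgroup.center G) = ⊥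
  target : Target (G ⧸ Subgroup.center G)
  perfect : commutator (G ⧸ Subgroup.center G) = ⊤
  good : Good S ⊤ (commutator G)

theorem genOut (hP : PropPartOne.{u}) {S : Sylow 2 G} (hCI : CI G) (hfix : OddFix S)
    (hgen : Gen S) (hnS : ¬ (S : Subgroup G).Normal)
    (hnab : ¬ IsMulCommutative ↥(S : Subgroup G)) (hIH : Below S) : GenOut S :=
  have hT := (bender_quotient hP hCI hfix hgen hnS hnab hIH).2.2
  have hZ := center_quotient_eq_bot hgen hCI hfix hnS
  ⟨hnab, hgen, hZ, hT, quotient_perfect hT hZ, gen_case hP hCI hfix hgen hnS hnab hIH⟩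

theorem GenOut.exists_derived_ne_one {S : Sylow 2 G} (h : GenOut S) :
    ∃ c ∈ ⁅(S : Subgroup G), (S : Subgroup G)⁆, c ≠ 1 := by
  by_contra hc
  push Not at hc
  refine h.nab (Subgroup.le_centralizer_iff_isMulCommutative.1 ?_)
  rw [← Subgroup.commutator_eq_bot_iff_le_centralizer, eq_bot_iff]
  exact fun c hcS => Subgroup.mem_bot.2 (hc c hcS)

theorem derived_le (S : Sylow 2 G) :
    ⁅(S : Subgroup G), (S : Subgroup G)⁆ ≤ commutator G := by
  rw [commutator_def]
  exact Subgroup.commutator_mono le_top le_top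

theorem eq_one_of_two_odd {a : G} {k d : ℕ} (hd : Odd d) (h2 : a ^ 2 ^ k = 1) (h : a ^ d = 1) :
    a = 1 :=
  orderOf_eq_one_iff.1 (Nat.eq_one_of_dvd_coprimes ((Nat.coprime_two_left.2 hd).pow_left k)
    (orderOf_dvd_of_pow_eq_one h2) (orderOf_dvd_of_pow_eq_one h))

/-- A cyclic derived group of `S` is central. -/
theorem GenOut.derived_le_center {S : Sylow 2 G} (h : GenOut S)
    (hcyc : IsCyclic ↥(⁅(S : Subgroup G), (S : Subgroup G)⁆ : Subgroup G)) :
    ⁅(S : Subgroup G), (S : Subgroup G)⁆ ≤ Subgroup.center G := by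
  haveI : Fact (Nat.Prime 2) := ⟨Nat.prime_two⟩
  intro c₀ hc₀
  by_contra hc₀z
  set D := (⁅(S : Subgroup G), (S : Subgroup G)⁆ : Subgroup G) with hD
  set Q := D.map πZ with hQ
  haveI : IsCyclic ↥Q :=
    isCyclic_of_surjective ((πZ).subgroupMap D) (MonoidHom.subgroupMap_surjective _ _)
  obtain ⟨k, hk⟩ := exists_pow_two_pow S (commutator_le_self S hc₀)
  obtain ⟨i, -, hi⟩ := (Nat.dvd_prime_pow Nat.prime_two).1
    (orderOf_dvd_of_pow_eq_one (show πZ c₀ ^ 2 ^ k = 1 by rw [← map_pow, hk, map_one]))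
  rcases i with _ | i
  · exact hc₀z ((map_eq_one_iff_center _).1 (orderOf_eq_one_iff.1 (by simpa using hi)))
  set c := c₀ ^ 2 ^ i with hc
  have hcD : c ∈ D := pow_mem hc₀ _
  have hco : orderOf (πZ c) = 2 := by
    rw [hc, map_pow, orderOf_pow_of_dvd (pow_ne_zero _ two_ne_zero)
      (hi ▸ pow_dvd_pow 2 i.le_succ), hi, pow_succ, Nat.mul_div_cancel_left _ (pow_pos two_pos i)]
  have hC := centralizer_commutator h.perfect
  have ho : ∀ {z : G}, Outer S (commutator G) z → orderOf (πZ z) = 2 := fun {z} hz => by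
    obtain ⟨-, hzz, hz2⟩ := hz
    rw [hC] at hzz hz2
    exact orderOf_eq_prime (by rw [sq, ← map_mul]; exact (map_eq_one_iff_center _).2 hz2)
      fun h => hzz ((map_eq_one_iff_center _).1 h)
  have hcout : Outer S (commutator G) c := ⟨commutator_le_self S hcD, fun hz => by
      rw [hC] at hz
      rw [(map_eq_one_iff_center _).2 hz, orderOf_one] at hco
      omega, by
      rw [hC]
      refine (map_eq_one_iff_center _).1 ?_
      rw [map_mul, ← sq, ← hco, pow_orderOf_eq_one]⟩
  have huniq : ∀ y, Outer S (commutator G) y → πZ y = πZ c := by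
    intro y hy
    obtain ⟨n, hn, hny⟩ := h.good.trans c y hcout hy
    rw [hC] at hny
    have he : πZ (n * c * n⁻¹) = πZ y := by
      have := (map_eq_one_iff_center _).2 hny
      rwa [map_mul, map_inv, mul_inv_eq_one] at this
    have hyQ : πZ y ∈ Q := he ▸ Subgroup.mem_map_of_mem _ (conj_mem_commutator hn.2 hcD)
    have hz : Subgroup.zpowers (⟨_, hyQ⟩ : ↥Q) =
        Subgroup.zpowers (⟨_, Subgroup.mem_map_of_mem _ hcD⟩ : ↥Q) := by
      refine Cfsg.Agent.Lib.GWConsumers12.eq_of_card_eq_cyclic ?_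
      rw [Nat.card_zpowers, Nat.card_zpowers, Subgroup.orderOf_mk, Subgroup.orderOf_mk, ho hy, hco]
    obtain ⟨j, hj⟩ := Subgroup.mem_zpowers_iff.1 (hz ▸ Subgroup.mem_zpowers (⟨_, hyQ⟩ : ↥Q))
    have hj' : πZ c ^ j = πZ y := congrArg Subtype.val hj
    rcases Int.even_or_odd j with ⟨l, rfl⟩ | ⟨l, rfl⟩
    · have := ho hy
      rw [← hj', ← two_mul, zpow_mul, zpow_two, ← sq, ← hco, pow_orderOf_eq_one, one_zpow,
        orderOf_one, hco] at this
      omega
    · rw [← hj', zpow_add, zpow_mul, zpow_two, ← sq, ← hco, pow_orderOf_eq_one, one_zpow, zpow_one,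
        one_mul]
  obtain ⟨y, y', hy, hy', hne⟩ := h.good.two
  rw [hC] at hne
  refine hne ((map_eq_one_iff_center _).1 ?_)
  rw [map_mul, map_inv, huniq y hy, huniq y' hy', mul_inv_cancel]

theorem GenOut.linear_four {S : Sylow 2 G} (h : GenOut S)
    (hle : ⁅(S : Subgroup G), (S : Subgroup G)⁆ ≤ Subgroup.center G) :
    ∃ (F : Type) (_ : Field F) (_ : Fintype F), Fintype.card F = 4 ∧
      Nonempty (G ⧸ Subgroup.center G ≃* Matrix.ProjectiveSpecialLinearGroup (Fin 2) F) := by
  classical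
  haveI : Fact (Nat.Prime 2) := ⟨Nat.prime_two⟩
  obtain ⟨c, hc, hc1⟩ := h.exists_derived_ne_one
  obtain ⟨k, hk⟩ := exists_pow_two_pow S (commutator_le_self S hc)
  rcases h.target with ⟨F, _, _, n, hn, hF, ⟨e⟩⟩ | ⟨F, _, _, m, hm, hF, ⟨e⟩⟩ | ⟨F, _, _, n, hn, hF, ⟨e⟩⟩
  · rcases Nat.lt_or_ge n 3 with hn3 | hn3
    · obtain rfl : n = 2 := by omega
      exact ⟨F, inferInstance, inferInstance, by rw [hF]; norm_num, ⟨e⟩⟩
    · exfalso
      have h8 : 2 ^ 3 ≤ 2 ^ n := Nat.pow_le_pow_right two_pos hn3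
      have heven : 2 ^ n % 2 = 0 := by
        rw [← Nat.even_iff, Nat.even_pow]; exact ⟨even_two, by omega⟩
      have h2 := pow_card_eq_one h.perfect (Cfsg.Agent.Lib.Schur.Universe.hasSchurMultiplier_lift
        e.symm (Cfsg.Agent.S2086.result hF 2 le_rfl (fun _ => by omega)
          (by simp; omega))) (derived_le S hc) (hle hc)
      rw [Nat.card_congr Multiplicative.toAdd, Nat.card_zmod] at h2
      refine hc1 (eq_one_of_two_odd ?_ hk h2)
      refine Nat.not_even_iff_odd.1 fun hev => ?_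
      have h3 := (even_iff_two_dvd.1 hev).trans (Nat.gcd_dvd_right 2 (2 ^ n - 1))
      omega
  · exfalso
    by_cases hm2 : 2 ≤ m
    · have h2 := pow_card_eq_one h.perfect (Cfsg.Agent.Lib.Schur.Universe.hasSchurMultiplier_lift
        e.symm (Cfsg.Agent.S2111.result hm2 hF)) (derived_le S hc) (hle hc)
      exact hc1 (by simpa using h2)
    obtain rfl : m = 1 := by omega
    obtain ⟨-, -, hder⟩ := sylow_suzuki le_rfl hF e
      (S.mapSurjective (QuotientGroup.mk'_surjective (Subgroup.center G)))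
    rw [Sylow.coe_mapSurjective, ← Subgroup.map_commutator,
      (Subgroup.map_eq_bot_iff _).2 (le_of_le_of_eq hle (QuotientGroup.ker_mk' _).symm),
      Subgroup.card_bot] at hder
    norm_num at hder
  · exfalso
    have h2n : 2 ^ 2 ≤ 2 ^ n := Nat.pow_le_pow_right two_pos hn
    have h2 := pow_card_eq_one h.perfect (Cfsg.Agent.Lib.Schur.Universe.hasSchurMultiplier_lift
      e.symm (Cfsg.Agent.S2089.result 3 (2 ^ n) hF le_rfl (by omega) (by simp)))
      (derived_le S hc) (hle hc)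
    rw [Nat.card_congr Multiplicative.toAdd, Nat.card_zmod] at h2
    refine hc1 (eq_one_of_two_odd ?_ hk h2)
    refine Nat.not_even_iff_odd.1 fun hev => ?_
    have h3 := (even_iff_two_dvd.1 hev).trans (Nat.gcd_dvd_left 3 (2 ^ n + 1))
    omega

/-- A central derived group: the perfect part is `SL(2,5)` and the derived group is cyclic. -/
theorem GenOut.sl25 {S : Sylow 2 G} (h : GenOut S)
    (hle : ⁅(S : Subgroup G), (S : Subgroup G)⁆ ≤ Subgroup.center G) :
    Nonempty (↥(commutator G) ≃* Matrix.SpecialLinearGroup (Fin 2) (ZMod 5)) ∧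
      IsCyclic ↥(⁅(S : Subgroup G), (S : Subgroup G)⁆ : Subgroup G) := by
  classical
  haveI : Fact (Nat.Prime 5) := ⟨by norm_num⟩
  obtain ⟨F, _, _, hF, ⟨e⟩⟩ := h.linear_four hle
  obtain ⟨e4⟩ := Cfsg.Agent.S0252.result hF
  obtain ⟨e5⟩ := Linear.SmallIso.nonempty_psl_two_five (F := ZMod 5) (ZMod.card 5)
  set e' : G ⧸ Subgroup.center G ≃* Matrix.ProjectiveSpecialLinearGroup (Fin 2) (ZMod 5) :=
    (e.trans e4).trans e5.symm with he'
  have hM := Cfsg.Agent.Lib.Schur.Universe.hasSchurMultiplier_lift e'.symm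
    (Cfsg.Agent.S2086.result (F := ZMod 5) (q := 5) (ZMod.card 5) 2 le_rfl (fun _ => by norm_num)
      (by simp))
  set σ := (πZ).comp (commutator G).subtype with hσ
  have hstem := stem_commutator h.perfect
  have hdvd : Nat.card σ.ker ∣ 2 := by
    have := ker_card_dvd hM σ hstem
    rwa [Nat.card_congr Multiplicative.toAdd, Nat.card_zmod,
      show Nat.gcd 2 (5 - 1) = 2 by norm_num] at this
  obtain ⟨c, hc, hc1⟩ := h.exists_derived_ne_one
  have hmem : (⟨c, derived_le S hc⟩ : ↥(commutator G)) ∈ σ.ker :=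
    (map_eq_one_iff_center (G := G) _).2 (hle hc)
  have h2 : Nat.card σ.ker = 2 := by
    refine ((Nat.dvd_prime Nat.prime_two).1 hdvd).resolve_left fun h1 => hc1 ?_
    have := Subgroup.mem_bot.1 (Subgroup.eq_bot_of_card_eq _ h1 ▸ hmem)
    exact congrArg Subtype.val this
  refine ⟨Cfsg.Agent.Lib.GWConsumers12.nonempty_equiv_SL2 (perfect_commutator h.perfect)
    (by rw [ZMod.card]; decide) (by rw [ZMod.card]; norm_num) (e'.toMonoidHom.comp σ)
    (e'.surjective.comp hstem.1) ?_ ?_, ?_⟩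
  · rw [ker_equiv_comp]; exact hstem.2.1
  · rw [ker_equiv_comp]; exact h2
  · have hD : (⁅(S : Subgroup G), (S : Subgroup G)⁆ : Subgroup G) ≤
        σ.ker.map (commutator G).subtype := fun x hx =>
      ⟨⟨x, derived_le S hx⟩, (map_eq_one_iff_center (G := G) _).2 (hle hx), rfl⟩
    haveI : Fact (Nat.Prime 2) := ⟨Nat.prime_two⟩
    haveI : IsCyclic ↥(σ.ker.map (commutator G).subtype) := isCyclic_of_prime_card (p := 2)
      (by rw [Subgroup.card_map_of_injective (commutator G).subtype_injective, h2])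
    exact Subgroup.isCyclic_of_le hD

/-- The generated group is the central product of the centre part of `S` and the derived group. -/
theorem GenOut.sup_eq_top {S : Sylow 2 G} (h : GenOut S) :
    ((S : Subgroup G) ⊓ Subgroup.center G) ⊔ commutator G = ⊤ := by
  haveI : (((S : Subgroup G) ⊓ Subgroup.center G) ⊔ commutator G).Normal :=
    ⟨fun x hx g => by
      have hc : g * x * g⁻¹ * x⁻¹ ∈ commutator G := by
        rw [← commutatorElement_def, commutator_def]
        exact Subgroup.commutator_mem_commutator (Subgroup.mem_top g) (Subgroup.mem_top x)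
      have := mul_mem (Subgroup.mem_sup_right (S := (S : Subgroup G) ⊓ Subgroup.center G) hc) hx
      rwa [inv_mul_cancel_right] at this⟩
  exact h.gen _ inferInstance ((sylow_le_commutator h.perfect S).trans (sup_le_sup_left inf_le_right _))

/-- The possible perfect parts, with `A` the central part of the Sylow subgroup. -/
def Shape {G : Type u} [Group G] (A L : Subgroup G) : Prop :=
  (A ⊓ L = ⊥ ∧
    ((∃ (m : ℕ) (F : Type) (_ : Field F) (_ : Fintype F), 1 ≤ m ∧ Fintype.card F = 2 ^ (2 * m + 1) ∧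
        Nonempty (↥L ≃* ↥(Cfsg.Lie.Sz F (2 ^ (m + 1))))) ∨
      (∃ (n : ℕ) (F : Type) (_ : Field F) (_ : Fintype F), 2 ≤ n ∧ Fintype.card F = 4 ^ n ∧
        (Nonempty (↥L ≃* Cfsg.PSU 3 F (2 ^ n)) ∨ Nonempty (↥L ≃* ↥(Cfsg.SU 3 F (2 ^ n))))))) ∨
  (Subgroup.center ↥L ≠ ⊥ ∧ ∃ (F : Type) (_ : Field F) (_ : Fintype F), Fintype.card F = 8 ∧
    Nonempty (↥L ⧸ Subgroup.center ↥L ≃* ↥(Cfsg.Lie.Sz F 4)))

/-- A non-cyclic derived group: Suzuki or unitary. -/
theorem GenOut.shape {S : Sylow 2 G} (h : GenOut S)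
    (hnc : ¬ IsCyclic ↥(⁅(S : Subgroup G), (S : Subgroup G)⁆ : Subgroup G)) :
    Shape ((S : Subgroup G) ⊓ Subgroup.center G) (commutator G) := by
  classical
  haveI : Fact (Nat.Prime 2) := ⟨Nat.prime_two⟩
  have hsurj := QuotientGroup.mk'_surjective (Subgroup.center G)
  set σ := (πZ).comp (commutator G).subtype with hσ
  have hstem := stem_commutator h.perfect
  have hker : σ.ker = Subgroup.center ↥(commutator G) := by
    refine le_antisymm hstem.2.1 fun z hz => ?_
    have : σ z ∈ Subgroup.center (G ⧸ Subgroup.center G) := Subgroup.mem_center_iff.2 fun q => by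
      obtain ⟨y, rfl⟩ := hstem.1 q
      rw [← map_mul, Subgroup.mem_center_iff.1 hz y, map_mul]
    rw [h.zbot, Subgroup.mem_bot] at this
    exact this
  have hinf : ∀ a ∈ (S : Subgroup G) ⊓ Subgroup.center G ⊓ commutator G,
      ∃ ha : a ∈ commutator G, (⟨a, ha⟩ : ↥(commutator G)) ∈ σ.ker := fun a ha =>
    ⟨ha.2, (map_eq_one_iff_center (G := G) _).2 ha.1.2⟩
  have hbot : σ.ker = ⊥ → (S : Subgroup G) ⊓ Subgroup.center G ⊓ commutator G = ⊥ := fun hk =>
    (Subgroup.eq_bot_iff_forall _).2 fun a ha => by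
      obtain ⟨ha', hm⟩ := hinf a ha
      rw [hk, Subgroup.mem_bot] at hm
      exact congrArg Subtype.val hm
  rcases h.target with ⟨F, _, _, n, hn, hF, ⟨e⟩⟩ | ⟨F, _, _, m, hm, hF, ⟨e⟩⟩ | ⟨F, _, _, n, hn, hF, ⟨e⟩⟩
  · refine absurd (h.sl25 ?_).2 hnc
    set T := S.mapSurjective hsurj with hT
    refine Subgroup.commutator_le.2 fun a ha b hb => (map_eq_one_iff_center _).1 ?_
    have hab : ∀ {s}, s ∈ (S : Subgroup G) → πZ s * πZ s = 1 := fun {s} hs =>
      (sylow_linear hF e T).1 _ (by rw [hT, Sylow.coe_mapSurjective]; exact Subgroup.mem_map_of_mem _ hs)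
    rw [map_commutatorElement]
    refine commutatorElement_eq_one_iff_mul_comm.2 ?_
    have h1 := inv_eq_of_mul_eq_one_right (hab (mul_mem ha hb))
    rwa [map_mul, mul_inv_rev, inv_eq_of_mul_eq_one_right (hab ha),
      inv_eq_of_mul_eq_one_right (hab hb), eq_comm] at h1
  · by_cases hk : σ.ker = ⊥
    · exact .inl ⟨hbot hk, .inl ⟨m, F, inferInstance, inferInstance, hm, hF,
        ⟨(MulEquiv.ofBijective σ ⟨(MonoidHom.ker_eq_bot_iff σ).1 hk, hstem.1⟩).trans e⟩⟩⟩
    · obtain rfl : m = 1 := by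
        by_contra hm1
        refine hk (Subgroup.eq_bot_of_card_eq _ (Nat.dvd_one.1 ?_))
        have := ker_card_dvd (Cfsg.Agent.Lib.Schur.Universe.hasSchurMultiplier_lift e.symm
          (Cfsg.Agent.S2111.result (by omega : 2 ≤ m) hF)) σ hstem
        rwa [Nat.card_congr Multiplicative.toAdd, Nat.card_zmod] at this
      refine .inr ⟨hker ▸ hk, F, inferInstance, inferInstance, by rw [hF]; norm_num, ⟨?_⟩⟩
      exact ((QuotientGroup.quotientMulEquivOfEq hker.symm).trans
        (QuotientGroup.quotientKerEquivOfSurjective σ hstem.1)).trans e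
  · have hF' : Fintype.card F = 4 ^ n := by
      rw [hF, ← pow_mul, mul_comm, pow_mul]; norm_num
    refine .inl ⟨?_, .inr ⟨n, F, inferInstance, inferInstance, hn, hF', ?_⟩⟩
    · refine (Subgroup.eq_bot_iff_forall _).2 fun a ha => ?_
      obtain ⟨ha', hm⟩ := hinf a ha
      obtain ⟨k, hk⟩ := exists_pow_two_pow S ha.1.1
      have h2n : 2 ^ 2 ≤ 2 ^ n := Nat.pow_le_pow_right two_pos hn
      have h2 := pow_card_eq_one h.perfect (Cfsg.Agent.Lib.Schur.Universe.hasSchurMultiplier_lift
        e.symm (Cfsg.Agent.S2089.result 3 (2 ^ n) hF le_rfl (by omega) (by simp))) ha' ha.1.2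
      rw [Nat.card_congr Multiplicative.toAdd, Nat.card_zmod] at h2
      refine eq_one_of_two_odd ?_ hk h2
      refine Nat.not_even_iff_odd.1 fun hev => ?_
      have h3 := (even_iff_two_dvd.1 hev).trans (Nat.gcd_dvd_left 3 (2 ^ n + 1))
      omega
    · exact nonempty_equiv_unitary (perfect_commutator h.perfect) hn hF (e.toMonoidHom.comp σ)
        (e.surjective.comp hstem.1) (by rw [ker_equiv_comp]; exact hstem.2.1)

end Cfsg.Agent.Lib.CentralInt88
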