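import Cfsg.Agent.Lib.CentralInt88.Induction
import Cfsg.Agent.Lib.CentralInt88.Structure
import Cfsg.Agent.Lib.Cores.Pi
import Cfsg.Agent.Lib.OddOrder.PLengthSetup
import Cfsg.Agent.S3184

/-!
# Groups with central Sylow 2-intersections, modulo part I of Bender's theorem
-/

set_option autoImplicit false
set_option linter.style.haveILetI false
set_option linter.unusedSectionVars false

namespace Cfsg.Agent.Lib.CentralInt88

open Cfsg.Agent.Lib.Inv59.Basic
open Cfsg.Agent.Lib.BenderConsumers23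
open scoped commutatorElement

universe u

variable {G : Type u} [Group G] [Finite G]

/-- The data about the proper subgroups containing `S`. -/
theorem below (hP : PropPartOne.{u}) {S : Sylow 2 G} (hCI : CI G) (hfix : OddFix S)
    (hnab : ¬ IsMulCommutative ↥(S : Subgroup G)) : Below S := by
  intro H hH _
  rcases dichotomy hP (S.subtype hH) (hCI.subgroup H) (hfix.subgroup hH)
    (not_comm_subtype hnab hH) with hN | ⟨L, hL⟩
  · left
    intro h hh
    exact (mem_normalizer_subtype hH ⟨h, hh⟩).1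
      (Subgroup.normalizer_eq_top_iff.2 hN ▸ Subgroup.mem_top _)
  · exact Or.inr ⟨_, hL.map_subtype hH⟩

theorem sylow_le_normalClosure (S : Sylow 2 G) :
    (S : Subgroup G) ≤ Subgroup.normalClosure ((S : Subgroup G) : Set G) :=
  Subgroup.subset_normalClosure

/-- Inside the normal closure of `S` we are in the generated case. -/
theorem genOut_normalClosure (hP : PropPartOne.{u}) (S : Sylow 2 G) (hCI : CI G)
    (hfix : OddFix S) (hnab : ¬ IsMulCommutative ↥(S : Subgroup G))
    (hnS : ¬ (S : Subgroup G).Normal) : GenOut (S.subtype (sylow_le_normalClosure S)) := by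
  haveI : Fact (Nat.Prime 2) := ⟨Nat.prime_two⟩
  set K := Subgroup.normalClosure ((S : Subgroup G) : Set G) with hK
  have hSK : (S : Subgroup G) ≤ K := sylow_le_normalClosure S
  have hgen : Gen (S.subtype hSK) := by
    intro L hLn hSL
    have hle : K ≤ L.map K.subtype := by
      refine (Subgroup.closure_le _).2 ?_
      intro x hx
      obtain ⟨s, hs, hsx⟩ := Group.mem_conjugatesOfSet_iff.1 hx
      obtain ⟨g, rfl⟩ := isConj_iff.1 hsx
      have hgS : ((g • S : Sylow 2 G) : Subgroup G) ≤ K := fun z hz => by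
        have h1 := mem_conj_sylow.1 hz
        have h2 := Subgroup.Normal.conj_mem
          (Subgroup.normalClosure_normal : K.Normal) _ (hSK h1) g
        rwa [show g * (g⁻¹ * z * g) * g⁻¹ = z by group] at h2
      have hxK : g * s * g⁻¹ ∈ K :=
        hgS (mem_conj_sylow.2 (by rw [show g⁻¹ * (g * s * g⁻¹) * g = s by group]; exact hs))
      obtain ⟨k, hk⟩ := MulAction.exists_smul_eq ↥K (S.subtype hSK) ((g • S).subtype hgS)
      have hmem : (⟨g * s * g⁻¹, hxK⟩ : ↥K) ∈
          (((g • S).subtype hgS : Sylow 2 ↥K) : Subgroup ↥K) :=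
        (show g * s * g⁻¹ ∈ ((g • S : Sylow 2 G) : Subgroup G) from
          mem_conj_sylow.2 (by rw [show g⁻¹ * (g * s * g⁻¹) * g = s by group]; exact hs))
      rw [← hk, mem_conj_sylow] at hmem
      refine ⟨(⟨g * s * g⁻¹, hxK⟩ : ↥K), ?_, rfl⟩
      have := hLn.conj_mem _ (hSL hmem) k
      rw [show k * (k⁻¹ * ⟨g * s * g⁻¹, hxK⟩ * k) * k⁻¹ = (⟨g * s * g⁻¹, hxK⟩ : ↥K) by group] at this
      exact this
    refine (Subgroup.eq_top_iff' L).2 fun x => ?_
    obtain ⟨y, hy, hyx⟩ := hle x.2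
    rwa [← show y = x from Subtype.ext hyx]
  have hnS' : ¬ ((S.subtype hSK : Sylow 2 ↥K) : Subgroup ↥K).Normal := fun h => by
    refine hnS (normal_of_le_normalizer S K hSK fun k hk => ?_)
    exact (mem_normalizer_subtype hSK ⟨k, hk⟩).1
      (Subgroup.normalizer_eq_top_iff.2 h ▸ Subgroup.mem_top _)
  exact genOut hP (hCI.subgroup K) (hfix.subgroup hSK) hgen hnS' (not_comm_subtype hnab hSK)
    (below hP (hCI.subgroup K) (hfix.subgroup hSK) (not_comm_subtype hnab hSK))

theorem map_center {A B : Type*} [Group A] [Group B] (e : A ≃* B) :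
    (Subgroup.center A).map e.toMonoidHom = Subgroup.center B := by
  ext b
  constructor
  · rintro ⟨a, ha, rfl⟩
    refine Subgroup.mem_center_iff.2 fun c => ?_
    obtain ⟨c, rfl⟩ := e.surjective c
    exact ((map_mul e c a).symm.trans (congrArg e (Subgroup.mem_center_iff.1 ha c))).trans (map_mul e a c)
  · intro hb
    obtain ⟨a, rfl⟩ := e.surjective b
    exact ⟨a, Subgroup.mem_center_iff.2 fun c => e.injective (by
      rw [map_mul, map_mul]; exact Subgroup.mem_center_iff.1 hb (e c)), rfl⟩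

/-- Abelian Sylow subgroups spread. -/
theorem forall_comm (S : Sylow 2 G) (h : IsMulCommutative ↥(S : Subgroup G)) (P : Sylow 2 G) :
    IsMulCommutative ↥(P : Subgroup G) := by
  haveI : Fact (Nat.Prime 2) := ⟨Nat.prime_two⟩
  obtain ⟨g, rfl⟩ := MulAction.exists_smul_eq G S P
  refine ⟨⟨fun a b => ?_⟩⟩
  obtain ⟨a, rfl⟩ := (Sylow.equivSMul S g).surjective a
  obtain ⟨b, rfl⟩ := (Sylow.equivSMul S g).surjective b
  rw [← map_mul, ← map_mul, h.is_comm.comm]

/-- Solvable of 2-length one, when the image of `S` modulo the odd core is normal. -/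
theorem solvable_case (T : Sylow 2 (G ⧸ Cfsg.oddCore G))
    (hT : (T : Subgroup (G ⧸ Cfsg.oddCore G)).Normal) :
    Group.IsSolvable G ∧ Cfsg.PLengthLE 2 1 G := by
  haveI : Fact (Nat.Prime 2) := ⟨Nat.prime_two⟩
  haveI := hT
  have hodd : Odd (T : Subgroup (G ⧸ Cfsg.oddCore G)).index :=
    Nat.not_even_iff_odd.1 fun h => T.not_dvd_index (even_iff_two_dvd.1 h)
  haveI : Group.IsSolvable ((G ⧸ Cfsg.oddCore G) ⧸ (T : Subgroup (G ⧸ Cfsg.oddCore G))) :=
    Cfsg.Agent.S0205.result (by rwa [← Subgroup.index_eq_card])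
  haveI : Group.IsSolvable ↥(T : Subgroup (G ⧸ Cfsg.oddCore G)) := by
    haveI : Group.IsNilpotent ↥(T : Subgroup (G ⧸ Cfsg.oddCore G)) := T.isPGroup'.isNilpotent
    infer_instance
  haveI : Group.IsSolvable ↥(Cfsg.oddCore G) := Cfsg.Agent.S0205.result Cores.oddCore_odd
  haveI : Group.IsSolvable (G ⧸ Cfsg.oddCore G) :=
    Group.isSolvable_of_ker_le_range (T : Subgroup (G ⧸ Cfsg.oddCore G)).subtype
      (QuotientGroup.mk' (T : Subgroup (G ⧸ Cfsg.oddCore G))) (by simp)
  refine ⟨Group.isSolvable_of_ker_le_range (Cfsg.oddCore G).subtype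
    (QuotientGroup.mk' (Cfsg.oddCore G)) (by simp), OddOrder.PLengthSetup.pLengthLE_one_of_index ?_⟩
  rw [show Cfsg.pPrimePCore 2 G = (Cfsg.pCore 2 (G ⧸ Cfsg.oddCore G)).comap
    (QuotientGroup.mk' (Cfsg.oddCore G)) from rfl,
    Subgroup.index_comap_of_surjective _ (QuotientGroup.mk'_surjective _),
    Cores.pCore_eq_of_normal_sylow T]
  exact Nat.coprime_two_right.2 hodd

/-- The statement, with part I of Bender's theorem as a hypothesis. -/
theorem main (hP : PropPartOne.{u})
    (hyp : ∀ S T : Sylow 2 G, S ≠ T → ∃ U : Sylow 2 G,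
      (S : Subgroup G) ⊓ (T : Subgroup G) ≤ (Subgroup.center ↥(U : Subgroup G)).map (U : Subgroup G).subtype) :
    (Group.IsSolvable G ∧ Cfsg.PLengthLE 2 1 G) ∨
    (∀ S : Sylow 2 G, IsMulCommutative ↥(S : Subgroup G)) ∨
    (∃ (N M : Subgroup G) (_ : N.Normal) (_ : M.Normal) (_ : (N.subgroupOf M).Normal), N < M ∧ Odd (Nat.card ↥N) ∧ Odd M.index ∧
      ∃ A L : Subgroup (↥M ⧸ N.subgroupOf M), IsMulCommutative ↥A ∧ IsPGroup 2 ↥A ∧
        Nonempty (↥L ≃* Matrix.SpecialLinearGroup (Fin 2) (ZMod 5)) ∧ (∀ a ∈ A, ∀ l ∈ L, a * l = l * a) ∧ A ⊔ L = ⊤) ∨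
    (∃ (M : Subgroup G), M.Normal ∧ Odd M.index ∧ ∃ A L : Subgroup G, IsMulCommutative ↥A ∧ IsPGroup 2 ↥A ∧
      ((Cfsg.IsInternalDirectProduct A L M ∧
          ((∃ (m : ℕ) (F : Type) (_ : Field F) (_ : Fintype F), 1 ≤ m ∧ Fintype.card F = 2 ^ (2 * m + 1) ∧
              Nonempty (↥L ≃* ↥(Cfsg.Lie.Sz F (2 ^ (m + 1))))) ∨
            (∃ (n : ℕ) (F : Type) (_ : Field F) (_ : Fintype F), 2 ≤ n ∧ Fintype.card F = 4 ^ n ∧
              (Nonempty (↥L ≃* Cfsg.PSU 3 F (2 ^ n)) ∨ Nonempty (↥L ≃* ↥(Cfsg.SU 3 F (2 ^ n))))))) ∨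
        (A ≤ M ∧ L ≤ M ∧ (∀ a ∈ A, ∀ l ∈ L, a * l = l * a) ∧ A ⊔ L = M ∧ Group.IsPerfect ↥L ∧
          Subgroup.center ↥L ≠ ⊥ ∧
          ∃ (F : Type) (_ : Field F) (_ : Fintype F), Fintype.card F = 8 ∧
            Nonempty (↥L ⧸ Subgroup.center ↥L ≃* ↥(Cfsg.Lie.Sz F 4))))) := by
  haveI : Fact (Nat.Prime 2) := ⟨Nat.prime_two⟩
  have hCI := ci_of_hyp hyp
  obtain ⟨S⟩ := (inferInstance : Nonempty (Sylow 2 G))
  by_cases hab : IsMulCommutative ↥(S : Subgroup G)
  · exact .inr (.inl (forall_comm S hab))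
  set O := Cfsg.oddCore G with hO
  have hOodd : Odd (Nat.card O) := Cores.oddCore_odd
  set π := QuotientGroup.mk' O with hπ
  have hsurj : Function.Surjective π := QuotientGroup.mk'_surjective O
  set T := S.mapSurjective hsurj with hT
  have hTS : (T : Subgroup (G ⧸ O)) = (S : Subgroup G).map π := Sylow.coe_mapSurjective ..
  have hSO : ∀ s ∈ (S : Subgroup G), s ∈ O → s = 1 := fun s hs hsO => by
    obtain ⟨k, hk⟩ := exists_pow_two_pow S hs
    refine eq_one_of_two_odd hOodd hk ?_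
    exact congrArg Subtype.val (pow_card_eq_one' (x := (⟨s, hsO⟩ : O)))
  have hTab : ¬ IsMulCommutative ↥(T : Subgroup (G ⧸ O)) := by
    intro h
    refine hab (Subgroup.le_centralizer_iff_isMulCommutative.1 fun a ha => ?_)
    refine Subgroup.mem_centralizer_iff.2 fun b hb => ?_
    have h1 := Subgroup.le_centralizer_iff_isMulCommutative.2 h
      (x := π a) (hTS ▸ Subgroup.mem_map_of_mem π ha)
    have h2 := Subgroup.mem_centralizer_iff.1 h1 (π b) (hTS ▸ Subgroup.mem_map_of_mem π hb)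
    refine mul_inv_eq_one.1 (hSO _ ?_ ((QuotientGroup.eq_one_iff _).1 ?_))
    · exact mul_mem (mul_mem hb ha) (inv_mem (mul_mem ha hb))
    · show π (b * a * (a * b)⁻¹) = 1
      rw [map_mul, map_inv, map_mul, map_mul, h2, mul_inv_cancel]
  have hCIq : CI (G ⧸ O) := hCI.quotient O
  have hO1 : Cfsg.oddCore (G ⧸ O) = ⊥ := Cores.pPrimeCore_quotient_pPrimeCore 2
  have hStar : Star T := by
    intro hcyc c hc hc2
    haveI := hcyc
    have hmap : (commutator ↥(T : Subgroup (G ⧸ O))).map (T : Subgroup (G ⧸ O)).subtype =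
        ⁅(T : Subgroup (G ⧸ O)), (T : Subgroup (G ⧸ O))⁆ := by
      rw [commutator_def, Subgroup.map_commutator, ← MonoidHom.range_eq_map, Subgroup.range_subtype]
    have hC : IsCyclic ↥(commutator ↥(T : Subgroup (G ⧸ O))) := by
      have h' : IsCyclic ↥((commutator ↥(T : Subgroup (G ⧸ O))).map
          (T : Subgroup (G ⧸ O)).subtype) := by rw [hmap]; exact hcyc
      exact ((Subgroup.equivMapOfInjective _ _
        (T : Subgroup (G ⧸ O)).subtype_injective).isCyclic).2 h'
    obtain ⟨c', hc', rfl⟩ := hmap.ge hc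
    refine Subgroup.mem_center_iff.2 fun g => ?_
    have hne : commutator ↥(T : Subgroup (G ⧸ O)) ≠ ⊥ := fun hb => by
      rw [hb, SetLike.mem_coe, Subgroup.mem_bot] at hc'
      rw [hc', map_one, orderOf_one] at hc2
      omega
    have h := Cfsg.Agent.S3184.result (hyp_of_ci hCIq) T (commutator ↥(T : Subgroup (G ⧸ O))) hne hC
      inferInstance c' hc' (by rwa [Subgroup.coe_subtype, Subgroup.orderOf_coe] at hc2) g
    rw [QuotientGroup.eq, hO1, Subgroup.mem_bot, inv_mul_eq_one] at h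
    exact mul_inv_eq_iff_eq_mul.1 h
  have hfixT : OddFix T := fun X hX hSX => le_centralizer_of_odd T hCIq hTab hStar hX hSX
  by_cases hTn : (T : Subgroup (G ⧸ O)).Normal
  · exact .inl (solvable_case T hTn)
  by_cases hcyc : IsCyclic ↥(⁅(S : Subgroup G), (S : Subgroup G)⁆ : Subgroup G)
  · refine .inr (.inr (.inl ?_))
    have h := genOut_normalClosure hP T hCIq hfixT hTab hTn
    set K := Subgroup.normalClosure ((T : Subgroup (G ⧸ O)) : Set (G ⧸ O)) with hK
    set T' := T.subtype (sylow_le_normalClosure T) with hT'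
    have hc' : IsCyclic ↥(⁅(T' : Subgroup ↥K), (T' : Subgroup ↥K)⁆ : Subgroup ↥K) := by
      haveI := hcyc
      have h1 : IsCyclic ↥((⁅(S : Subgroup G), (S : Subgroup G)⁆ : Subgroup G).map π) :=
        isCyclic_of_surjective (π.subgroupMap _) (MonoidHom.subgroupMap_surjective _ _)
      rw [Subgroup.map_commutator, ← hTS, ← map_commutator_subtype (sylow_le_normalClosure T)] at h1
      exact ((Subgroup.equivMapOfInjective _ _ K.subtype_injective).isCyclic).2 h1
    obtain ⟨⟨eL⟩, -⟩ := h.sl25 (h.derived_le_center hc')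
    set M := K.comap π with hM
    have hOM : O ≤ M := fun x hx => by
      rw [hM, Subgroup.mem_comap, hπ, QuotientGroup.mk'_apply, (QuotientGroup.eq_one_iff x).2 hx]
      exact one_mem _
    have hker : (π.subgroupComap K).ker = O.subgroupOf M := by
      ext x
      rw [MonoidHom.mem_ker, Subgroup.mem_subgroupOf, ← QuotientGroup.eq_one_iff (N := O)]
      exact Subtype.ext_iff
    let φ : ↥M ⧸ O.subgroupOf M ≃* ↥K :=
      (QuotientGroup.quotientMulEquivOfEq hker.symm).trans
        (QuotientGroup.quotientKerEquivOfSurjective _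
          (MonoidHom.subgroupComap_surjective_of_surjective π K hsurj))
    refine ⟨O, M, inferInstance, Subgroup.Normal.comap Subgroup.normalClosure_normal π, inferInstance,
      lt_of_le_of_ne hOM fun e => hab ?_, hOodd, ?_, ?_⟩
    · refine Subgroup.le_centralizer_iff_isMulCommutative.1 fun s hs => ?_
      have : s ∈ O := by
        rw [e]
        exact sylow_le_normalClosure T (hTS ▸ Subgroup.mem_map_of_mem π hs)
      rw [hSO s hs this]
      exact one_mem _
    · rw [Subgroup.index_comap_of_surjective _ hsurj]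
      exact Nat.not_even_iff_odd.1 fun hev => T.not_dvd_index
        ((even_iff_two_dvd.1 hev).trans (Subgroup.index_dvd_of_le (sylow_le_normalClosure T)))
    refine ⟨((T' : Subgroup ↥K) ⊓ Subgroup.center ↥K).map φ.symm.toMonoidHom,
      (commutator ↥K).map φ.symm.toMonoidHom, ?_, ?_,
      ⟨(Subgroup.equivMapOfInjective _ _ φ.symm.injective).symm.trans eL⟩, ?_, ?_⟩
    · refine Subgroup.le_centralizer_iff_isMulCommutative.1 ?_
      rintro _ ⟨a, ha, rfl⟩
      refine Subgroup.mem_centralizer_iff.2 ?_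
      rintro _ ⟨b, -, rfl⟩
      rw [← map_mul, ← map_mul, Subgroup.mem_center_iff.1 ha.2 b]
    · exact (T'.isPGroup'.to_le inf_le_left).map _
    · rintro _ ⟨a, ha, rfl⟩ _ ⟨l, -, rfl⟩
      rw [← map_mul, ← map_mul, Subgroup.mem_center_iff.1 ha.2 l]
    · rw [← Subgroup.map_sup, h.sup_eq_top, Subgroup.map_top_of_surjective _ φ.symm.surjective]
  · refine .inr (.inr (.inr ?_))
    have hfixS : OddFix S := fun X hX hSX =>
      le_centralizer_of_odd S hCI hab (fun hc => absurd hc hcyc) hX hSX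
    have hnS : ¬ (S : Subgroup G).Normal := fun hn => hTn (by
      rw [hTS]; exact hn.map π hsurj)
    have h := genOut_normalClosure hP S hCI hfixS hab hnS
    set K := Subgroup.normalClosure ((S : Subgroup G) : Set G) with hK
    set S' := S.subtype (sylow_le_normalClosure S) with hS'
    have hc' : ¬ IsCyclic ↥(⁅(S' : Subgroup ↥K), (S' : Subgroup ↥K)⁆ : Subgroup ↥K) := fun hc => by
      haveI := hc
      refine hcyc ?_
      rw [← map_commutator_subtype (sylow_le_normalClosure S)]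
      exact isCyclic_of_surjective (K.subtype.subgroupMap _) (MonoidHom.subgroupMap_surjective _ _)
    set A₀ := (S' : Subgroup ↥K) ⊓ Subgroup.center ↥K with hA₀
    set L₀ := commutator ↥K with hL₀
    let ψ := Subgroup.equivMapOfInjective L₀ K.subtype K.subtype_injective
    have hcommAL : ∀ a ∈ A₀.map K.subtype, ∀ l ∈ L₀.map K.subtype, a * l = l * a := by
      rintro _ ⟨a, ha, rfl⟩ _ ⟨l, -, rfl⟩
      rw [← map_mul, ← map_mul, Subgroup.mem_center_iff.1 ha.2 l]
    have hsup : A₀.map K.subtype ⊔ L₀.map K.subtype = K := by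
      rw [← Subgroup.map_sup, h.sup_eq_top, ← MonoidHom.range_eq_map, Subgroup.range_subtype]
    refine ⟨K, Subgroup.normalClosure_normal, Nat.not_even_iff_odd.1 fun hev => S.not_dvd_index
        ((even_iff_two_dvd.1 hev).trans (Subgroup.index_dvd_of_le (sylow_le_normalClosure S))),
      A₀.map K.subtype, L₀.map K.subtype, ?_, (S'.isPGroup'.to_le inf_le_left).map _, ?_⟩
    · refine Subgroup.le_centralizer_iff_isMulCommutative.1 ?_
      rintro _ ⟨a, ha, rfl⟩
      refine Subgroup.mem_centralizer_iff.2 ?_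
      rintro _ ⟨b, -, rfl⟩
      rw [← map_mul, ← map_mul, Subgroup.mem_center_iff.1 ha.2 b]
    rcases h.shape hc' with ⟨hinf, hf⟩ | ⟨hz, F, i, j, hF, ⟨e⟩⟩
    · left
      refine ⟨⟨Subgroup.map_subtype_le _, Subgroup.map_subtype_le _, hcommAL, ?_, hsup⟩, ?_⟩
      · rw [← Subgroup.map_inf _ _ _ K.subtype_injective, hinf, Subgroup.map_bot]
      · rcases hf with ⟨m, F, i, j, hm, hF, ⟨e⟩⟩ | ⟨n, F, i, j, hn, hF, he⟩
        · exact .inl ⟨m, F, i, j, hm, hF, ⟨ψ.symm.trans e⟩⟩
        · exact .inr ⟨n, F, i, j, hn, hF,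
            he.imp (fun ⟨e⟩ => ⟨ψ.symm.trans e⟩) (fun ⟨e⟩ => ⟨ψ.symm.trans e⟩)⟩
    · right
      refine ⟨Subgroup.map_subtype_le _, Subgroup.map_subtype_le _, hcommAL, hsup, ?_, ?_,
        F, i, j, hF, ⟨?_⟩⟩
      · rw [Subgroup.isPerfect_iff, ← Subgroup.map_commutator, hL₀, commutator_perfect h.perfect]
      · intro hb
        refine hz ?_
        rw [← map_center ψ.symm, hb, Subgroup.map_bot]
      · exact (QuotientGroup.congr _ _ ψ.symm (map_center ψ.symm)).trans e

end Cfsg.Agent.Lib.CentralInt88
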