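import Cfsg.Agent.Lib.CentralInt88.Basic
import Cfsg.Agent.Lib.Coprime.Generation
import Cfsg.Agent.Lib.RankOne.Involution
import Cfsg.Agent.Lib.PGroups.UniqueInvolution
import Mathlib.GroupTheory.SemidirectProduct

/-!
# Odd subgroups normalised by a Sylow 2-subgroup with central intersections

They are centralised, unless the derived group of the Sylow subgroup is cyclic with a non-central
involution.
-/

set_option autoImplicit false
set_option linter.style.haveILetI false

namespace Cfsg.Agent.Lib.CentralInt88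

open scoped commutatorElement

universe u

variable {G : Type u} [Group G]

/-- If the derived group of `S` is cyclic, its involution is central in the whole group. -/
def Star (S : Sylow 2 G) : Prop :=
  IsCyclic ↥(⁅(S : Subgroup G), (S : Subgroup G)⁆ : Subgroup G) →
    ∀ c ∈ ⁅(S : Subgroup G), (S : Subgroup G)⁆, orderOf c = 2 → c ∈ Subgroup.center G

/-- Two commuting automorphisms of order two with their product: the fixed points generate. -/
theorem fixed_generate {P : Type u} [Group P] [Finite P] (hP : Odd (Nat.card P)) (a b : MulAut P)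
    (ha : a * a = 1) (hb : b * b = 1) (hab : a * b = b * a) (M : Subgroup P)
    (h1 : ∀ p, a p = p → p ∈ M) (h2 : ∀ p, b p = p → p ∈ M) (h3 : ∀ p, (a * b) p = p → p ∈ M) :
    M = ⊤ := by
  haveI : Finite (MulAut P) := Finite.of_injective (fun f => ((f : P ≃* P) : P → P))
    fun f g h => MulEquiv.ext (congrFun h)
  haveI : Finite (P ⋊[MonoidHom.id (MulAut P)] MulAut P) :=
    Finite.of_equiv _ SemidirectProduct.equivProd.symm
  set i : P →* P ⋊[MonoidHom.id (MulAut P)] MulAut P := SemidirectProduct.inl with hi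
  have hinj : Function.Injective i := SemidirectProduct.inl_injective
  have hconj : ∀ (f : MulAut P) (p : P),
      (SemidirectProduct.inr f : P ⋊[MonoidHom.id (MulAut P)] MulAut P) * i p *
        (SemidirectProduct.inr f)⁻¹ = i (f p) := fun f p => by
    rw [hi, ← map_inv]; exact (SemidirectProduct.inl_aut (φ := MonoidHom.id (MulAut P)) f p).symm
  have hn : ∀ f : MulAut P, ∀ z ∈ i.range,
      (SemidirectProduct.inr f : P ⋊[MonoidHom.id (MulAut P)] MulAut P) * z *
        (SemidirectProduct.inr f)⁻¹ ∈ i.range := by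
    rintro f _ ⟨p, rfl⟩; exact ⟨f p, (hconj f p).symm⟩
  have hm : ∀ f : MulAut P, (∀ p, f p = p → p ∈ M) → ∀ z ∈ i.range,
      (SemidirectProduct.inr f : P ⋊[MonoidHom.id (MulAut P)] MulAut P) * z *
        (SemidirectProduct.inr f)⁻¹ = z → z ∈ M.map i := by
    rintro f hf _ ⟨p, rfl⟩ h
    rw [hconj] at h
    exact ⟨p, hf p (hinj h), rfl⟩
  have hle := RankOne.Involution.le_of_four_group (H := i.range) (M := M.map i)
    (by rwa [← Nat.card_congr (MonoidHom.ofInjective hinj).toEquiv])
    (x := SemidirectProduct.inr a) (y := SemidirectProduct.inr b)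
    (by rw [← map_mul, ha, map_one]) (by rw [← map_mul, hb, map_one])
    (by rw [← map_mul, hab, map_mul]) (hn a) (hn b) (hm a h1) (hm b h2)
    (by rw [← map_mul]; exact hm (a * b) h3)
  exact (Subgroup.eq_top_iff' M).2 fun p => by
    obtain ⟨q, hq, hqp⟩ := hle ⟨p, rfl⟩
    exact hinj hqp ▸ hq

theorem commute_of_gens {Q : Type u} [Group Q] {t : Set Q} (ht : Subgroup.closure t = ⊤)
    (h : ∀ a ∈ t, ∀ b ∈ t, a * b = b * a) (x y : Q) : x * y = y * x := by
  have h1 : (⊤ : Subgroup Q) ≤ Subgroup.centralizer t := by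
    rw [← ht, Subgroup.closure_le]
    exact fun a ha => Subgroup.mem_centralizer_iff.2 fun b hb => h b hb a ha
  have h2 : (⊤ : Subgroup Q) ≤ Subgroup.centralizer ({x} : Set Q) := by
    rw [← ht, Subgroup.closure_le]
    exact fun a ha => Subgroup.mem_centralizer_singleton_iff.2
      ((Subgroup.mem_centralizer_iff.1 (h1 (Subgroup.mem_top x))) a ha)
  exact (Subgroup.mem_centralizer_singleton_iff.1 (h2 (Subgroup.mem_top y))).symm

/-- A preimage configuration of a generalised quaternion quotient: the derived group is cyclic,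
with an involution outside the kernel. -/
theorem quaternion_case {A : Type u} [Group A] {n : ℕ} (m : ℕ) (hn : n = 2 ^ (m + 1))
    (f : A →* QuaternionGroup n) (hf : Function.Surjective f)
    (hK : ∀ k : A, f k = 1 → ∀ x : A, x * k = k * x) :
    ∃ c : A, c ∈ commutator A ∧ orderOf c = 2 ∧ f c ≠ 1 ∧
      ∃ c₀ : A, commutator A ≤ Subgroup.zpowers c₀ := by
  haveI : NeZero n := ⟨by rw [hn]; positivity⟩
  obtain ⟨r, hr⟩ := hf (QuaternionGroup.a 1)
  obtain ⟨s, hs⟩ := hf (QuaternionGroup.xa 0)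
  set k₁ := r⁻¹ * (s * r⁻¹ * s⁻¹) with hk₁
  have hk₁f : f k₁ = 1 := by
    rw [hk₁, map_mul, map_mul, map_mul, map_inv, map_inv, hr, hs, inv_mul_eq_one, eq_mul_inv_iff_mul_eq,
      eq_mul_inv_iff_mul_eq]
    simp
  have hkc := hK k₁ hk₁f
  have hsrs : s * r⁻¹ * s⁻¹ = r * k₁ := by rw [hk₁, mul_inv_cancel_left]
  have hsrs' : s * r * s⁻¹ = k₁⁻¹ * r⁻¹ := by
    rw [← mul_inv_rev, ← hsrs]; group
  set c₀ := ⁅r, s⁆ with hc₀
  have hc₀' : c₀ = r * (r * k₁) := by
    rw [hc₀, commutatorElement_def, ← hsrs]; group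
  have hck : Commute r k₁ := hkc r
  have hrc : Commute r c₀ := by
    rw [hc₀']; exact (Commute.refl r).mul_right ((Commute.refl r).mul_right hck)
  have hsc : s * c₀ * s⁻¹ = c₀⁻¹ := by
    have e : s * c₀ * s⁻¹ = (s * r * s⁻¹) * (s * r * s⁻¹) * (s * k₁ * s⁻¹) := by
      rw [hc₀']; group
    rw [e, hsrs', show s * k₁ * s⁻¹ = k₁ by rw [hkc s, mul_inv_cancel_right]]
    rw [show c₀⁻¹ = k₁⁻¹ * r⁻¹ * r⁻¹ by rw [hc₀']; group]
    have h1 : Commute k₁⁻¹ r⁻¹ := hck.symm.inv_inv
    calc k₁⁻¹ * r⁻¹ * (k₁⁻¹ * r⁻¹) * k₁ = k₁⁻¹ * r⁻¹ * (r⁻¹ * k₁⁻¹) * k₁ := by rw [h1.eq]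
      _ = k₁⁻¹ * r⁻¹ * r⁻¹ := by group
  clear_value c₀
  have hord : orderOf (QuaternionGroup.a (1 : ZMod (2 * n))) = 2 * n := QuaternionGroup.orderOf_a_one
  have hc₀n : c₀ ^ n = 1 := by
    set k₂ := (s * s)⁻¹ * r ^ n with hk₂
    have hk₂f : f k₂ = 1 := by
      rw [hk₂, map_mul, map_inv, map_mul, map_pow, hs, hr, inv_mul_eq_one, ← sq,
        QuaternionGroup.xa_sq, QuaternionGroup.a_one_pow]
    have hrn : r ^ n = s * s * k₂ := by rw [hk₂, mul_inv_cancel_left]
    have hfix : s * r ^ n * s⁻¹ = r ^ n := by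
      rw [hrn]
      calc s * (s * s * k₂) * s⁻¹ = s * s * (s * k₂ * s⁻¹) := by group
        _ = s * s * k₂ := by rw [hK k₂ hk₂f s, mul_inv_cancel_right]
    rw [← conj_pow, hsrs', (Commute.mul_pow (hck.symm.inv_inv) n), inv_pow, inv_pow,
      inv_mul_eq_iff_eq_mul, inv_eq_iff_mul_eq_one] at hfix
    rw [hc₀', ← mul_assoc, (Commute.mul_pow (hck.mul_left hck)) n, Commute.mul_pow (Commute.refl r),
      ← hfix, (Commute.pow_pow hck.symm n n).eq]
    group
  have hc₀mem : c₀ ∈ commutator A :=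
    hc₀ ▸ Subgroup.commutator_mem_commutator (Subgroup.mem_top r) (Subgroup.mem_top s)
  have hc₀f : f c₀ = QuaternionGroup.a 1 ^ 2 := by
    rw [hc₀', map_mul, map_mul, hk₁f, mul_one, hr, sq]
  refine ⟨c₀ ^ 2 ^ m, pow_mem hc₀mem _, ?_, ?_, c₀, ?_⟩
  · refine orderOf_eq_prime ?_ fun h => ?_
    · rw [← pow_mul, ← pow_succ, ← hn]; exact hc₀n
    · have h' := congrArg f h
      rw [map_pow, hc₀f, ← pow_mul, map_one, ← orderOf_dvd_iff_pow_eq_one, hord, ← pow_succ', ← hn] at h'
      have := Nat.le_of_dvd (NeZero.pos n) h'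
      have := NeZero.pos n
      omega
  · rw [map_pow, hc₀f, ← pow_mul, Ne, ← orderOf_dvd_iff_pow_eq_one, hord, ← pow_succ', ← hn]
    intro h'
    have := Nat.le_of_dvd (NeZero.pos n) h'
    have := NeZero.pos n
    omega
  · set R := Subgroup.zpowers c₀ with hR
    set t : Set A := {k | f k = 1} ∪ {r, s} with ht
    have htop : Subgroup.closure t = ⊤ := by
      rw [Subgroup.eq_top_iff']
      intro x
      have hrmem : r ∈ Subgroup.closure t := Subgroup.subset_closure (by simp [ht])
      have hsmem : s ∈ Subgroup.closure t := Subgroup.subset_closure (by simp [ht])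
      obtain ⟨y, hy, hyx⟩ : ∃ y ∈ Subgroup.closure t, f y = f x := by
        cases hfx : f x with
        | a i => exact ⟨r ^ i.val, pow_mem hrmem _, by
            rw [map_pow, hr, QuaternionGroup.a_one_pow, ZMod.natCast_zmod_val]⟩
        | xa i => exact ⟨s * r ^ i.val, mul_mem hsmem (pow_mem hrmem _), by
            rw [map_mul, map_pow, hr, hs, QuaternionGroup.a_one_pow, ZMod.natCast_zmod_val]
            simp⟩
      have hk : y⁻¹ * x ∈ Subgroup.closure t := Subgroup.subset_closure (Or.inl (by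
        show f (y⁻¹ * x) = 1
        rw [map_mul, map_inv, hyx, inv_mul_cancel]))
      simpa using mul_mem hy hk
    have hgen : ∀ a ∈ t, a ∈ Subgroup.normalizer (R : Set A) := by
      intro a ha
      rw [hR, Subgroup.mem_normalizer_iff]
      have key : a * c₀ * a⁻¹ = c₀ ∨ a * c₀ * a⁻¹ = c₀⁻¹ := by
        rcases ha with ha | ha | ha
        · exact Or.inl (by rw [(hK a ha c₀).symm, mul_inv_cancel_right])
        · subst ha; exact Or.inl (by rw [hrc.eq, mul_inv_cancel_right])
        · rw [Set.mem_singleton_iff] at ha; subst ha; exact Or.inr hsc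
      intro x
      have hz : (Subgroup.zpowers c₀).map (MulAut.conj a).toMonoidHom = Subgroup.zpowers c₀ := by
        rw [MonoidHom.map_zpowers]
        rcases key with h | h
        · exact congrArg Subgroup.zpowers h
        · rw [show (MulAut.conj a).toMonoidHom c₀ = c₀⁻¹ from h, Subgroup.zpowers_inv]
      constructor
      · intro hx; rw [← hz]; exact ⟨x, hx, rfl⟩
      · intro hx
        obtain ⟨y, hy, hyx⟩ : (MulAut.conj a).toMonoidHom x ∈ (Subgroup.zpowers c₀).map
            (MulAut.conj a).toMonoidHom := hz.symm ▸ hx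
        exact (MulAut.conj a).injective hyx ▸ hy
    haveI : R.Normal := Subgroup.normalizer_eq_top_iff.1
      (top_le_iff.1 (htop ▸ (Subgroup.closure_le _).2 hgen))
    have hgen' : Subgroup.closure (QuotientGroup.mk' R '' t) = ⊤ := by
      rw [← MonoidHom.map_closure, htop, Subgroup.map_top_of_surjective _ (QuotientGroup.mk'_surjective R)]
    have hcomm : ∀ a ∈ QuotientGroup.mk' R '' t, ∀ b ∈ QuotientGroup.mk' R '' t, a * b = b * a := by
      have hrs : QuotientGroup.mk' R r * QuotientGroup.mk' R s =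
          QuotientGroup.mk' R s * QuotientGroup.mk' R r := by
        rw [← commutatorElement_eq_one_iff_mul_comm, ← map_commutatorElement]
        exact (QuotientGroup.eq_one_iff _).2 (hc₀ ▸ Subgroup.mem_zpowers c₀)
      rintro _ ⟨a, ha, rfl⟩ _ ⟨b, hb, rfl⟩
      rcases ha with ha | ha
      · rw [← map_mul, ← map_mul, ← hK a ha b]
      rcases hb with hb | hb
      · rw [← map_mul, ← map_mul, hK b hb a]
      simp only [Set.mem_insert_iff, Set.mem_singleton_iff] at ha hb
      rcases ha with rfl | rfl <;> rcases hb with rfl | rfl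
      · rfl
      · exact hrs
      · exact hrs.symm
      · rfl
    rw [commutator_def, Subgroup.commutator_le]
    intro x _ y _
    refine (QuotientGroup.eq_one_iff _).1 ?_
    show QuotientGroup.mk' R ⁅x, y⁆ = 1
    rw [map_commutatorElement, commutatorElement_eq_one_iff_mul_comm]
    exact commute_of_gens hgen' hcomm _ _

theorem isMulCommutative_of (S : Subgroup G) (h : ∀ a ∈ S, ∀ b ∈ S, a * b = b * a) :
    IsMulCommutative ↥S :=
  ⟨⟨fun a b => Subtype.ext (h a a.2 b b.2)⟩⟩

/-- The core lemma, for a subgroup of prime power order. -/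
theorem le_centralizer_aux [Finite G] (S : Sylow 2 G) (hCI : CI G)
    (hnab : ¬ IsMulCommutative ↥(S : Subgroup G)) (hStar : Star S) :
    ∀ (m : ℕ) (P : Subgroup G), Nat.card P = m → Odd m →
      (S : Subgroup G) ≤ Subgroup.normalizer (P : Set G) →
      (S : Subgroup G) ≤ Subgroup.centralizer (P : Set G) := by
  haveI : Fact (Nat.Prime 2) := ⟨Nat.prime_two⟩
  intro m
  induction m using Nat.strong_induction_on with
  | _ m IH =>
  intro P hm hodd hSP
  by_contra hcon
  have hint : ∀ a : G, a ∈ (S : Subgroup G) → a ∈ P → a = 1 := fun a haS haP => by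
    obtain ⟨k, hk⟩ := exists_pow_two_pow S haS
    have h1 : orderOf a ∣ m := hm ▸ Subgroup.orderOf_dvd_natCard _ haP
    exact orderOf_eq_one_iff.1 (Nat.eq_one_of_dvd_coprimes
      ((Nat.coprime_two_left.2 hodd).pow_left k) (orderOf_dvd_of_pow_eq_one hk) h1)
  set P₀ := P ⊓ Subgroup.centralizer ((S : Subgroup G) : Set G) with hP₀
  have hfix : ∀ e ∈ (S : Subgroup G), e ∉ Subgroup.centralizer (P : Set G) →
      P ⊓ Subgroup.centralizer ({e} : Set G) ≤ P₀ := by
    intro e he hne
    by_cases hc : Cent S e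
    · set U := P ⊓ Subgroup.centralizer ({e} : Set G) with hU
      have hlt : U < P := lt_of_le_of_ne inf_le_left fun h => hne
        (Subgroup.mem_centralizer_iff.2 fun p hp =>
          Subgroup.mem_centralizer_singleton_iff.1 (inf_eq_left.1 h hp))
      have hUn : (S : Subgroup G) ≤ Subgroup.normalizer (U : Set G) := by
        intro s hs
        refine Cfsg.Agent.Lib.Inv59.Basic.mem_normalizer_of_conj_mem _ fun p hp => ⟨?_, ?_⟩
        · exact (Subgroup.mem_normalizer_iff.1 (hSP hs) p).1 hp.1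
        · have h1 : Commute p e := Subgroup.mem_centralizer_singleton_iff.1 hp.2
          have h2 : Commute s e := hc s hs
          exact Subgroup.mem_centralizer_singleton_iff.2 ((h2.mul_left h1).mul_left h2.inv_left).eq
      have hd : Nat.card U ∣ m := hm ▸ Subgroup.card_dvd_of_le hlt.le
      have hlt' : Nat.card U < m := by
        rw [← hm]
        by_contra hh
        exact hlt.ne (Subgroup.eq_of_le_of_card_ge hlt.le (not_lt.1 hh))
      exact le_inf inf_le_left (Subgroup.le_centralizer_iff.1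
        (IH _ hlt' U rfl (hodd.of_dvd_nat hd) hUn))
    · rintro p ⟨hp, hpe⟩
      refine ⟨hp, Subgroup.mem_centralizer_iff.2 fun s hs => ?_⟩
      have hpn := hCI.centralizer_le S he hc hpe
      have h1 : p * s * p⁻¹ * s⁻¹ ∈ (S : Subgroup G) :=
        mul_mem ((Subgroup.mem_normalizer_iff.1 hpn s).1 hs) (inv_mem hs)
      have h2 : p * s * p⁻¹ * s⁻¹ ∈ P := by
        rw [mul_assoc p, mul_assoc p]
        exact mul_mem hp (by
          simpa [mul_assoc] using (Subgroup.mem_normalizer_iff.1 (hSP hs) p⁻¹).1 (inv_mem hp))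
      have h3 := mul_inv_eq_one.1 (hint _ h1 h2)
      exact (mul_inv_eq_iff_eq_mul.1 h3).symm
  have hP₀ne : P₀ < P := lt_of_le_of_ne inf_le_left fun h =>
    hcon (Subgroup.le_centralizer_iff.1 (inf_eq_left.1 h))
  have hKc : ∀ k ∈ (S : Subgroup G), k ∈ Subgroup.centralizer (P : Set G) → Cent S k := by
    intro k hk hkP
    by_contra hc
    refine hP₀ne.not_ge fun p hp => ?_
    refine ⟨hp, Subgroup.mem_centralizer_iff.2 fun s hs => ?_⟩
    have hpk : p ∈ Subgroup.centralizer ({k} : Set G) :=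
      Subgroup.mem_centralizer_singleton_iff.2 (Subgroup.mem_centralizer_iff.1 hkP p hp)
    have hpn := hCI.centralizer_le S hk hc hpk
    have h1 : p * s * p⁻¹ * s⁻¹ ∈ (S : Subgroup G) :=
      mul_mem ((Subgroup.mem_normalizer_iff.1 hpn s).1 hs) (inv_mem hs)
    have h2 : p * s * p⁻¹ * s⁻¹ ∈ P := by
      rw [mul_assoc p, mul_assoc p]
      exact mul_mem hp (by
        simpa [mul_assoc] using (Subgroup.mem_normalizer_iff.1 (hSP hs) p⁻¹).1 (inv_mem hp))
    exact (mul_inv_eq_iff_eq_mul.1 (mul_inv_eq_one.1 (hint _ h1 h2))).symm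
  set φ : ↥(S : Subgroup G) →* MulAut ↥P :=
    P.normalizerMonoidHom.comp (Subgroup.inclusion hSP) with hφ
  have hker : ∀ s : ↥(S : Subgroup G), φ s = 1 ↔ (s : G) ∈ Subgroup.centralizer (P : Set G) := by
    intro s
    constructor
    · intro h
      refine Subgroup.mem_centralizer_iff.2 fun p hp => ?_
      have h1 : (s : G) * p * (s : G)⁻¹ = p := congrArg Subtype.val (MulEquiv.congr_fun h ⟨p, hp⟩)
      exact (mul_inv_eq_iff_eq_mul.1 h1).symm
    · intro h
      refine MulEquiv.ext fun p => Subtype.ext ?_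
      show (s : G) * p * (s : G)⁻¹ = p
      rw [← Subgroup.mem_centralizer_iff.1 h p p.2, mul_inv_cancel_right]
  have hcentK : ∀ k : ↥(S : Subgroup G), φ k = 1 → ∀ x, x * k = k * x := fun k hk x =>
    Subtype.ext (hKc k k.2 ((hker k).1 hk) x x.2)
  have hfour : ∀ a b : ↥φ.range, orderOf a = 2 → orderOf b = 2 → a * b = b * a → a = b := by
    intro a b ha hb hab
    by_contra hne
    have haa : a * a = 1 := by have := pow_orderOf_eq_one a; rwa [ha, sq] at this
    have hbb : b * b = 1 := by have := pow_orderOf_eq_one b; rwa [hb, sq] at this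
    have hfx : ∀ z : ↥φ.range, z ≠ 1 → ∀ p : ↥P, (z : MulAut ↥P) p = p →
        p ∈ P₀.subgroupOf P := by
      rintro ⟨_, s, rfl⟩ hz p hp
      refine hfix s s.2 (fun h => hz (Subtype.ext ((hker s).2 h))) ⟨p.2, ?_⟩
      have h1 : (s : G) * p * (s : G)⁻¹ = p := congrArg Subtype.val hp
      exact Subgroup.mem_centralizer_singleton_iff.2 (mul_inv_eq_iff_eq_mul.1 h1).symm
    have hne1 : ∀ z : ↥φ.range, orderOf z = 2 → z ≠ 1 := fun z hz h => by simp [h] at hz
    have h := fixed_generate (hm.symm ▸ hodd) (a : MulAut ↥P) (b : MulAut ↥P)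
      (congrArg Subtype.val haa) (congrArg Subtype.val hbb) (congrArg Subtype.val hab)
      (P₀.subgroupOf P) (hfx a (hne1 a ha)) (hfx b (hne1 b hb))
      (hfx (a * b) fun h => hne ((eq_inv_of_mul_eq_one_left h).trans (inv_eq_of_mul_eq_one_left hbb)))
    exact hP₀ne.not_ge (Subgroup.subgroupOf_eq_top.1 h)
  haveI : Finite ↥φ.range := Finite.of_surjective φ.rangeRestrict φ.rangeRestrict_surjective
  have hR : IsPGroup 2 ↥φ.range := S.isPGroup'.of_surjective φ.rangeRestrict φ.rangeRestrict_surjective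
  have hu : ∀ x y : ↥φ.range, orderOf x = 2 → orderOf y = 2 → y ∈ Subgroup.zpowers x := by
    intro x y hx hy
    have htop : (⊤ : Subgroup ↥φ.range) ≠ ⊥ := fun h => by
      have hxb : x ∈ (⊥ : Subgroup ↥φ.range) := h ▸ Subgroup.mem_top x
      rw [Subgroup.mem_bot] at hxb
      simp [hxb] at hx
    obtain ⟨z, -, hz, hz1⟩ := Cfsg.Agent.Lib.Inv59.Basic.exists_central_mem hR ⊤ htop
    obtain ⟨k, hk⟩ := (Nat.dvd_prime_pow Nat.prime_two).1
      ((orderOf_dvd_natCard z).trans (dvd_of_eq (IsPGroup.iff_card.1 hR).choose_spec))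
    rcases k with _ | k
    · exact absurd (orderOf_eq_one_iff.1 (by simpa using hk.2)) hz1
    set w := z ^ 2 ^ k with hw
    have hwo : orderOf w = 2 := by
      rw [hw, orderOf_pow_of_dvd (pow_ne_zero _ two_ne_zero) (hk.2 ▸ pow_dvd_pow 2 k.le_succ), hk.2,
        pow_succ, Nat.mul_div_cancel_left _ (pow_pos two_pos k)]
    have hwc : w ∈ Subgroup.center ↥φ.range := pow_mem hz _
    rw [hfour x w hx hwo (Subgroup.mem_center_iff.1 hwc x),
      hfour y w hy hwo (Subgroup.mem_center_iff.1 hwc y)]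
    exact Subgroup.mem_zpowers w
  rcases PGroups.isCyclic_or_quaternion hR hu with hcyc | ⟨-, n, hn, ⟨e⟩⟩
  · obtain ⟨g, hg⟩ := hcyc.exists_generator
    obtain ⟨_, s, rfl⟩ := g
    refine hnab (isMulCommutative_of _ fun a ha b hb => ?_)
    have hdec : ∀ x : ↥(S : Subgroup G), ∃ (i : ℤ) (k : ↥(S : Subgroup G)), φ k = 1 ∧ x = s ^ i * k := by
      intro x
      obtain ⟨i, hi⟩ := Subgroup.mem_zpowers_iff.1 (hg ⟨φ x, x, rfl⟩)
      refine ⟨i, (s ^ i)⁻¹ * x, ?_, by group⟩
      have hi' : φ s ^ i = φ x := congrArg Subtype.val hi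
      rw [map_mul, map_inv, map_zpow, hi', inv_mul_cancel]
    obtain ⟨i, k, hk, hik⟩ := hdec ⟨a, ha⟩
    obtain ⟨j, l, hl, hjl⟩ := hdec ⟨b, hb⟩
    have : Commute (⟨a, ha⟩ : ↥(S : Subgroup G)) ⟨b, hb⟩ := by
      rw [hik, hjl]
      exact ((Commute.zpow_zpow_self s i j).mul_right (hcentK l hl _)).mul_left
        ((hcentK k hk _).symm)
    exact congrArg Subtype.val this.eq
  · obtain ⟨m', rfl⟩ : ∃ m', n = m' + 1 := ⟨n - 1, by omega⟩
    obtain ⟨c, hc, hco, hcf, c₀, hle⟩ := quaternion_case m' rfl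
      (e.toMonoidHom.comp φ.rangeRestrict) (e.surjective.comp φ.rangeRestrict_surjective)
      (fun k hk x => hcentK k (by
        have : φ.rangeRestrict k = 1 := e.injective (hk.trans e.map_one.symm)
        exact congrArg Subtype.val this) x)
    have hmap : (commutator ↥(S : Subgroup G)).map (S : Subgroup G).subtype =
        ⁅(S : Subgroup G), (S : Subgroup G)⁆ := by
      rw [commutator_def, Subgroup.map_commutator, ← MonoidHom.range_eq_map, Subgroup.range_subtype]
    have hcyc : IsCyclic ↥(⁅(S : Subgroup G), (S : Subgroup G)⁆ : Subgroup G) := by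
      haveI : IsCyclic ↥((Subgroup.zpowers c₀).map (S : Subgroup G).subtype) := by
        rw [MonoidHom.map_zpowers]; infer_instance
      exact Subgroup.isCyclic_of_le (hmap ▸ Subgroup.map_mono hle)
    have hcen := hStar hcyc (c : G) (hmap ▸ Subgroup.mem_map_of_mem _ hc)
      (by rw [Subgroup.orderOf_coe, hco])
    refine hcf ?_
    show e (φ.rangeRestrict c) = 1
    have : φ.rangeRestrict c = 1 := Subtype.ext ((hker c).2
      (Subgroup.center_le_centralizer _ hcen))
    rw [this, map_one]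

/-- An odd subgroup normalised by `S` is centralised by `S`. -/
theorem le_centralizer_of_odd [Finite G] (S : Sylow 2 G) (hCI : CI G)
    (hnab : ¬ IsMulCommutative ↥(S : Subgroup G)) (hStar : Star S) {X : Subgroup G}
    (hX : Odd (Nat.card X)) (hSX : (S : Subgroup G) ≤ Subgroup.normalizer (X : Set G)) :
    (S : Subgroup G) ≤ Subgroup.centralizer (X : Set G) :=
  le_centralizer_aux S hCI hnab hStar _ X rfl hX hSX

end Cfsg.Agent.Lib.CentralInt88
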