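import Cfsg.Agent.Lib.CentralInt88.Main

/-!
# Simple groups with central Sylow 2-intersections and non-abelian Sylow 2-subgroups
-/

set_option autoImplicit false
set_option linter.style.haveILetI false
set_option linter.unusedSectionVars false

namespace Cfsg.Agent.Lib.CentralInt88

open Cfsg.Agent.Lib.BenderConsumers23

universe u

variable {G : Type u} [Group G] [Finite G] [IsSimpleGroup G]

theorem center_eq_bot_of_simple (hG : ¬ IsMulCommutative G) : Subgroup.center G = ⊥ :=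
  ((inferInstance : (Subgroup.center G).Normal).eq_bot_or_eq_top).resolve_right fun h =>
    hG ⟨⟨fun a b => (Subgroup.mem_center_iff.1 (h ▸ Subgroup.mem_top a : a ∈ Subgroup.center G) b).symm⟩⟩

/-- The simple case: abelian Sylow 2-subgroups, or a Suzuki or unitary group. -/
theorem simple_main (hP : PropPartOne.{u}) (hG : ¬ IsMulCommutative G)
    (hyp : ∀ S T : Sylow 2 G, S ≠ T → ∃ U : Sylow 2 G,
      (S : Subgroup G) ⊓ (T : Subgroup G) ≤ (Subgroup.center ↥(U : Subgroup G)).map (U : Subgroup G).subtype) :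
    (∀ S : Sylow 2 G, IsMulCommutative ↥(S : Subgroup G)) ∨
    (∃ (m : ℕ) (F : Type) (_ : Field F) (_ : Fintype F), 1 ≤ m ∧ Fintype.card F = 2 ^ (2 * m + 1) ∧
        Nonempty (G ≃* ↥(Cfsg.Lie.Sz F (2 ^ (m + 1))))) ∨
    (∃ (n : ℕ) (F : Type) (_ : Field F) (_ : Fintype F), 2 ≤ n ∧ Fintype.card F = 4 ^ n ∧
        Nonempty (G ≃* Cfsg.PSU 3 F (2 ^ n))) := by
  classical
  have hZ := center_eq_bot_of_simple hG
  have hns : ¬ Group.IsSolvable G := fun h => hG ⟨⟨IsSimpleGroup.comm_iff_isSolvable.2 h⟩⟩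
  have htriv : ∀ {A L : Subgroup G}, IsMulCommutative ↥A → (∀ a ∈ A, ∀ l ∈ L, a * l = l * a) →
      A ⊔ L = ⊤ → A = ⊥ := by
    intro A L hA hc hsup
    rw [eq_bot_iff, ← hZ]
    intro a ha
    refine Subgroup.mem_center_iff.2 fun g => ?_
    have hle : A ⊔ L ≤ Subgroup.centralizer ({a} : Set G) := sup_le
      (fun b hb => Subgroup.mem_centralizer_singleton_iff.2
        (congrArg Subtype.val (hA.is_comm.comm ⟨b, hb⟩ ⟨a, ha⟩)))
      (fun l hl => Subgroup.mem_centralizer_singleton_iff.2 (hc a ha l hl).symm)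
    exact Subgroup.mem_centralizer_singleton_iff.1 (hle (hsup ▸ Subgroup.mem_top g))
  rcases main hP hyp with ⟨hs, -⟩ | hab | ⟨N, M, hN, hM, _, hlt, -, -, A, L, hA, -, ⟨eL⟩, hc, hsup⟩ |
    ⟨M, hM, hidx, A, L, hA, -, hcase⟩
  · exact absurd hs hns
  · exact .inl hab
  · exfalso
    have hNb : N = ⊥ := hN.eq_bot_or_eq_top.resolve_right fun h => not_top_lt (h ▸ hlt)
    have hMt : M = ⊤ := hM.eq_bot_or_eq_top.resolve_left fun h => not_lt_bot (h ▸ hlt)
    subst hNb hMt
    haveI : Fact (Nat.Prime 5) := ⟨by norm_num⟩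
    let e : (↥(⊤ : Subgroup G) ⧸ (⊥ : Subgroup G).subgroupOf ⊤) ≃* G :=
      ((QuotientGroup.quotientMulEquivOfEq (Subgroup.bot_subgroupOf _)).trans
        QuotientGroup.quotientBot).trans Subgroup.topEquiv
    have hA' : A.map e.toMonoidHom = ⊥ := htriv (L := L.map e.toMonoidHom)
      (Subgroup.map_isMulCommutative A _)
      (by rintro _ ⟨a, ha, rfl⟩ _ ⟨l, hl, rfl⟩; rw [← map_mul, ← map_mul, hc a ha l hl])
      (by rw [← Subgroup.map_sup, hsup, Subgroup.map_top_of_surjective _ e.surjective])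
    rw [Subgroup.map_eq_bot_iff_of_injective _ e.injective] at hA'
    rw [hA', bot_sup_eq] at hsup
    subst hsup
    let f := (Subgroup.topEquiv.symm.trans eL).symm.trans e
    have h1 : Nat.card (Subgroup.center (Matrix.SpecialLinearGroup (Fin 2) (ZMod 5))) = 1 := by
      rw [← Subgroup.card_map_of_injective (f := f.toMonoidHom) f.injective, map_center, hZ,
        Subgroup.card_bot]
    rw [Cfsg.Agent.Lib.Linear.card_center_SL, Fintype.card_fin, Nat.card_zmod] at h1
    norm_num at h1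
  have hMt : M = ⊤ := hM.eq_bot_or_eq_top.resolve_left fun h => by
    subst h
    rw [Subgroup.index_bot] at hidx
    exact hns (Cfsg.Agent.S0205.result hidx)
  subst hMt
  rcases hcase with ⟨⟨-, -, hc, -, hsup⟩, hf⟩ | ⟨-, -, hc, hsup, -, hz, -⟩ <;>
    have hA0 := htriv hA hc hsup <;> subst hA0 <;> rw [bot_sup_eq] at hsup <;> subst hsup
  · rcases hf with ⟨m, F, i, j, hm, hF, ⟨e⟩⟩ | ⟨n, F, i, j, hn, hF, he⟩
    · exact .inr (.inl ⟨m, F, i, j, hm, hF, ⟨Subgroup.topEquiv.symm.trans e⟩⟩)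
    · refine .inr (.inr ⟨n, F, i, j, hn, hF, ?_⟩)
      rcases he with ⟨⟨e⟩⟩ | ⟨⟨e⟩⟩
      · exact ⟨Subgroup.topEquiv.symm.trans e⟩
      · have hc1 : Subgroup.center ↥(Cfsg.SU 3 F (2 ^ n)) = ⊥ := by
          rw [← map_center (Subgroup.topEquiv.symm.trans e), hZ, Subgroup.map_bot]
        exact ⟨((Subgroup.topEquiv.symm.trans e).trans QuotientGroup.quotientBot.symm).trans
          (QuotientGroup.quotientMulEquivOfEq hc1.symm)⟩
  · exfalso
    refine hz ?_
    rw [← map_center Subgroup.topEquiv.symm, hZ, Subgroup.map_bot]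

end Cfsg.Agent.Lib.CentralInt88
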