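import Cfsg.Agent.Lib.CentralInt88.OddAction
import Mathlib.GroupTheory.Commutator.Basic
import Mathlib.GroupTheory.Index

/-!
# The derived group when squares are central and the centre has index at most eight
-/

set_option autoImplicit false
set_option linter.style.haveILetI false

namespace Cfsg.Agent.Lib.CentralInt88

open scoped commutatorElement Pointwise

universe u

variable {P : Type u} [Group P]

theorem commutator_sq_mem (hsq : ∀ s : P, s * s ∈ Subgroup.center P) (a b : P) :
    ⁅a, b⁆ ∈ Subgroup.center P ∧ ⁅a, b⁆ * ⁅a, b⁆ = 1 := by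
  have hc : ⁅a, b⁆ ∈ Subgroup.center P := by
    rw [← QuotientGroup.eq_one_iff]
    have h : ∀ q : P ⧸ Subgroup.center P, q * q = 1 := fun q => by
      obtain ⟨s, rfl⟩ := QuotientGroup.mk_surjective q
      exact (QuotientGroup.eq_one_iff _).2 (hsq s)
    have hinv : ∀ q : P ⧸ Subgroup.center P, q⁻¹ = q := fun q => inv_eq_of_mul_eq_one_right (h q)
    show QuotientGroup.mk' (Subgroup.center P) ⁅a, b⁆ = 1
    rw [map_commutatorElement, commutatorElement_def, hinv, hinv]
    rw [mul_assoc]
    exact h _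
  refine ⟨hc, ?_⟩
  have hcomm : ∀ x, x * ⁅a, b⁆ = ⁅a, b⁆ * x := Subgroup.mem_center_iff.1 hc
  have h1 : a * b * a⁻¹ = ⁅a, b⁆ * b := by rw [commutatorElement_def]; group
  have h2 : a * (a * b * a⁻¹) * a⁻¹ = ⁅a, b⁆ * ⁅a, b⁆ * b := by
    calc a * (a * b * a⁻¹) * a⁻¹ = a * ⁅a, b⁆ * (b * a⁻¹) := by rw [h1]; group
      _ = ⁅a, b⁆ * (a * b * a⁻¹) := by rw [hcomm]; group
      _ = ⁅a, b⁆ * ⁅a, b⁆ * b := by rw [h1]; group
  have h3 : a * (a * b * a⁻¹) * a⁻¹ = b := by
    calc a * (a * b * a⁻¹) * a⁻¹ = a * a * b * (a * a)⁻¹ := by group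
      _ = b := by rw [← Subgroup.mem_center_iff.1 (hsq a) b, mul_inv_cancel_right]
  exact mul_eq_right.1 (h2.symm.trans h3)

theorem natCard_zpowers_le {u : P} (hu : u * u = 1) : Nat.card (Subgroup.zpowers u) ≤ 2 := by
  rw [Nat.card_zpowers]
  exact Nat.le_of_dvd two_pos (orderOf_dvd_of_pow_eq_one (by rw [sq, hu]))

theorem card_sup_le_of_normal (H K : Subgroup P) [K.Normal] :
    Nat.card ↥(H ⊔ K) ≤ Nat.card H * Nat.card K := by
  have h := Set.natCard_mul_le (s := (H : Set P)) (t := (K : Set P))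
  rw [← Subgroup.mul_normal H K] at h
  exact h

theorem exists_index_le [Finite P] (H : Subgroup P) :
    ∃ a : P, (H ⊔ Subgroup.zpowers a).index ≤ max 1 (H.index / 2) := by
  by_cases hH : H = ⊤
  · exact ⟨1, by simp [hH]⟩
  obtain ⟨a, -, ha⟩ := SetLike.not_le_iff_exists.1 (fun h => hH (top_le_iff.1 h))
  refine ⟨a, le_trans ?_ (le_max_right _ _)⟩
  set K := H ⊔ Subgroup.zpowers a
  have h1 := Subgroup.relIndex_mul_index (le_sup_left : H ≤ K)
  have h2 : H.relIndex K ≠ 1 := fun h =>
    ha (Subgroup.relIndex_eq_one.1 h (Subgroup.mem_sup_right (Subgroup.mem_zpowers a)))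
  have h3 : H.relIndex K ≠ 0 := Subgroup.index_ne_zero_of_finite
  rw [Nat.le_div_iff_mul_le two_pos, ← h1, mul_comm]
  exact Nat.mul_le_mul_right _ (show 2 ≤ H.relIndex K by omega)

/-- Squares central and centre of index at most eight: the derived group has order at most eight. -/
theorem card_commutator_le [Finite P] (hsq : ∀ s : P, s * s ∈ Subgroup.center P)
    (hidx : (Subgroup.center P).index ≤ 8) : Nat.card ↥(commutator P) ≤ 8 := by
  obtain ⟨a, ha⟩ := exists_index_le (Subgroup.center P)
  obtain ⟨b, hb⟩ := exists_index_le (Subgroup.center P ⊔ Subgroup.zpowers a)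
  obtain ⟨c, hc⟩ := exists_index_le (Subgroup.center P ⊔ Subgroup.zpowers a ⊔ Subgroup.zpowers b)
  set H := Subgroup.center P ⊔ Subgroup.zpowers a ⊔ Subgroup.zpowers b ⊔ Subgroup.zpowers c with hH
  have htop : H = ⊤ := by
    refine Subgroup.index_eq_one.1 (le_antisymm ?_ (Nat.one_le_iff_ne_zero.2
      Subgroup.index_ne_zero_of_finite))
    omega
  set W := Subgroup.zpowers ⁅a, b⁆ ⊔ Subgroup.zpowers ⁅a, c⁆ ⊔ Subgroup.zpowers ⁅b, c⁆ with hW
  have hnorm : ∀ x y : P, (Subgroup.zpowers ⁅x, y⁆).Normal := fun x y => ⟨fun z hz g => by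
    have hzc : z ∈ Subgroup.center P :=
      (Subgroup.zpowers_le.2 (commutator_sq_mem hsq x y).1) hz
    rw [Subgroup.mem_center_iff.1 hzc g, mul_inv_cancel_right]; exact hz⟩
  haveI := hnorm a b
  haveI := hnorm a c
  haveI := hnorm b c
  have hWcard : Nat.card W ≤ 8 := by
    refine (card_sup_le_of_normal _ _).trans ?_
    refine (Nat.mul_le_mul ((card_sup_le_of_normal _ _).trans (Nat.mul_le_mul
      (natCard_zpowers_le (commutator_sq_mem hsq a b).2)
      (natCard_zpowers_le (commutator_sq_mem hsq a c).2)))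
      (natCard_zpowers_le (commutator_sq_mem hsq b c).2)).trans ?_
    norm_num
  haveI : W.Normal := by rw [hW]; infer_instance
  have hle : commutator P ≤ W := by
    set t : Set (P ⧸ W) :=
      QuotientGroup.mk' W '' ((Subgroup.center P : Set P) ∪ {a, b, c}) with ht
    have htop' : Subgroup.closure t = ⊤ := by
      rw [ht, ← MonoidHom.map_closure, ← Subgroup.map_top_of_surjective _
        (QuotientGroup.mk'_surjective W)]
      congr 1
      refine top_le_iff.1 (htop.ge.trans ?_)
      refine sup_le (sup_le (sup_le (fun z hz => Subgroup.subset_closure (Or.inl hz)) ?_) ?_) ?_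
      all_goals refine Subgroup.zpowers_le.2 (Subgroup.subset_closure (Or.inr ?_))
      all_goals simp
    have hmem : ∀ {x y : P}, ⁅x, y⁆ ∈ W →
        QuotientGroup.mk' W x * QuotientGroup.mk' W y = QuotientGroup.mk' W y * QuotientGroup.mk' W x := by
      intro x y h
      refine commutatorElement_eq_one_iff_mul_comm.1 ?_
      rw [← map_commutatorElement]
      exact (QuotientGroup.eq_one_iff _).2 h
    have hab : ⁅a, b⁆ ∈ W := Subgroup.mem_sup_left (Subgroup.mem_sup_left (Subgroup.mem_zpowers _))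
    have hac : ⁅a, c⁆ ∈ W := Subgroup.mem_sup_left (Subgroup.mem_sup_right (Subgroup.mem_zpowers _))
    have hbc : ⁅b, c⁆ ∈ W := Subgroup.mem_sup_right (Subgroup.mem_zpowers _)
    have hcomm : ∀ x ∈ t, ∀ y ∈ t, x * y = y * x := by
      rintro _ ⟨x, hx, rfl⟩ _ ⟨y, hy, rfl⟩
      rcases hx with hx | hx
      · rw [← map_mul, ← map_mul, Subgroup.mem_center_iff.1 hx y]
      rcases hy with hy | hy
      · rw [← map_mul, ← map_mul, Subgroup.mem_center_iff.1 hy x]
      simp only [Set.mem_insert_iff, Set.mem_singleton_iff] at hx hy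
      rcases hx with rfl | rfl | rfl <;> rcases hy with rfl | rfl | rfl <;>
        first
          | rfl
          | exact hmem hab
          | exact (hmem hab).symm
          | exact hmem hac
          | exact (hmem hac).symm
          | exact hmem hbc
          | exact (hmem hbc).symm
    rw [commutator_def, Subgroup.commutator_le]
    intro x _ y _
    rw [← QuotientGroup.eq_one_iff]
    show QuotientGroup.mk' W ⁅x, y⁆ = 1
    rw [map_commutatorElement]
    exact commutatorElement_eq_one_iff_mul_comm.2 (commute_of_gens htop' hcomm _ _)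
  exact (Nat.le_of_dvd Nat.card_pos (Subgroup.card_dvd_of_le hle)).trans hWcard

end Cfsg.Agent.Lib.CentralInt88
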