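import Cfsg.Agent.Lib.CentralInt88.Basic
import Cfsg.Agent.Lib.BenderConsumers23.Mod.Main

/-!
# Strongly embedded images modulo the centre, and what the theorem of Bender and Suzuki gives
-/

set_option autoImplicit false
set_option linter.style.haveILetI false
set_option linter.unusedSectionVars false

namespace Cfsg.Agent.Lib.CentralInt88

open Cfsg.Agent.Lib.BenderSuzuki Cfsg.Agent.Lib.BenderConsumers23
open Cfsg.Agent.Lib.Inv59.Basic

universe u

variable {G : Type u} [Group G] [Finite G]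

local notation "πZ" => QuotientGroup.mk' (Subgroup.center G)

theorem map_eq_one_iff_center (x : G) : πZ x = 1 ↔ x ∈ Subgroup.center G :=
  QuotientGroup.eq_one_iff x

/-- A central 2-element lies in every Sylow 2-subgroup. -/
theorem center_mem_sylow (S : Sylow 2 G) {z : G} (hz : z ∈ Subgroup.center G) {k : ℕ}
    (hk : z ^ 2 ^ k = 1) : z ∈ (S : Subgroup G) := by
  refine mem_sylow_of_normalizer S k hk (mem_normalizer_of_conj_mem _ fun x hx => ?_)
  rw [← Subgroup.mem_center_iff.1 hz x, mul_inv_cancel_right]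
  exact hx

/-- A 2-element over the image of `S` lies in `S`. -/
theorem mem_sylow_of_map (S : Sylow 2 G) {y : G} {k : ℕ} (hk : y ^ 2 ^ k = 1)
    (hy : πZ y ∈ (S : Subgroup G).map πZ) : y ∈ (S : Subgroup G) := by
  obtain ⟨s, hs, hsy⟩ := hy
  have hz : s⁻¹ * y ∈ Subgroup.center G := (map_eq_one_iff_center _).1 (by
    rw [map_mul, map_inv, hsy, inv_mul_cancel])
  obtain ⟨l, hl⟩ := exists_pow_two_pow S hs
  have hc : Commute s⁻¹ y := by
    have e : y = s * (s⁻¹ * y) := by group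
    rw [e]
    exact ((Commute.refl s).mul_right (Subgroup.mem_center_iff.1 hz s)).inv_left
  have hz2 : (s⁻¹ * y) ^ 2 ^ (l + k) = 1 := by
    rw [hc.mul_pow, pow_add, pow_mul, inv_pow, hl, inv_one, one_pow, one_mul,
      Nat.mul_comm, pow_mul, hk, one_pow]
  simpa using mul_mem hs (center_mem_sylow S hz hz2)

/-- An element of order two modulo the centre lifts to a 2-element. -/
theorem exists_two_lift {y : G} (hy : y ∉ Subgroup.center G) (hy2 : y * y ∈ Subgroup.center G) :
    ∃ (j k : ℕ), πZ (y ^ j) = πZ y ∧ (y ^ j) ^ 2 ^ k = 1 ∧ y ^ j ∉ Subgroup.center G ∧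
      y ^ j * y ^ j ∈ Subgroup.center G := by
  obtain ⟨k, m, hm, hkm⟩ := Nat.exists_eq_pow_mul_and_not_dvd (orderOf_pos y).ne' 2 (by norm_num)
  have hsq : πZ y ^ 2 = 1 := by rw [sq, ← map_mul]; exact (map_eq_one_iff_center _).2 hy2
  have hme : πZ (y ^ m) = πZ y := by
    obtain ⟨i, hi⟩ : Odd m := Nat.odd_iff.2 (by omega)
    rw [map_pow, hi, pow_succ, pow_mul, hsq, one_pow, one_mul]
  refine ⟨m, k, hme, ?_, fun h => hy ((map_eq_one_iff_center _).1
    (hme ▸ (map_eq_one_iff_center _).2 h)), ?_⟩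
  · rw [← pow_mul, mul_comm, ← hkm, pow_orderOf_eq_one]
  · refine (map_eq_one_iff_center _).1 ?_
    rw [map_mul, hme, ← map_mul]
    exact (map_eq_one_iff_center _).2 hy2

/-- The centralisers of the involutions modulo the centre give a strongly embedded subgroup. -/
theorem stronglyEmbedded_map (hCI : CI G) (S : Sylow 2 G) (M : Subgroup G)
    (hN : Subgroup.normalizer ((S : Subgroup G) : Set G) ≤ M) (hne : M ≠ ⊤)
    (hex : ∃ x ∈ (S : Subgroup G), x ∉ Subgroup.center G)
    (hC : ∀ x ∈ (S : Subgroup G), x ∉ Subgroup.center G → x * x ∈ Subgroup.center G →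
      Subgroup.centralizer ({x} : Set G) ≤ M) :
    Cfsg.IsStronglyEmbedded (M.map πZ) := by
  have hsurj := QuotientGroup.mk'_surjective (Subgroup.center G)
  have hZM : Subgroup.center G ≤ M := fun z hz => hN (mem_normalizer_of_conj_mem _ fun x hx => by
    rw [← Subgroup.mem_center_iff.1 hz x, mul_inv_cancel_right]
    exact hx)
  have hcomap : ∀ y, πZ y ∈ M.map πZ → y ∈ M := fun y hy => by
    rw [← Subgroup.mem_comap, Subgroup.comap_map_eq_self
      (le_of_eq_of_le (QuotientGroup.ker_mk' _) hZM)] at hy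
    exact hy
  have hSM : (S : Subgroup G) ≤ M := le_trans Subgroup.le_normalizer hN
  refine ⟨fun h => hne ((Subgroup.eq_top_iff' M).2 fun y => hcomap y (h ▸ Subgroup.mem_top _)), ?_, ?_⟩
  · obtain ⟨x, hx, hxz⟩ := hex
    obtain ⟨k, hk⟩ := exists_pow_two_pow S hx
    have h1 : orderOf (πZ x) ∣ 2 ^ k := orderOf_dvd_of_pow_eq_one (by rw [← map_pow, hk, map_one])
    obtain ⟨i, -, hi⟩ := (Nat.dvd_prime_pow Nat.prime_two).1 h1
    have h2 : orderOf (πZ x) ∣ Nat.card ↥(M.map πZ) :=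
      Subgroup.orderOf_dvd_natCard _ (Subgroup.mem_map_of_mem _ (hSM hx))
    rcases i with _ | i
    · exact absurd ((map_eq_one_iff_center _).1 (orderOf_eq_one_iff.1 (by simpa using hi))) hxz
    · exact even_iff_two_dvd.2 ((hi ▸ dvd_pow_self 2 (Nat.succ_ne_zero i)).trans h2)
  intro g' hg'
  rw [← Nat.not_even_iff_odd]
  intro hev
  obtain ⟨i, hi⟩ := exists_prime_orderOf_dvd_card' (G := ↥(M.map πZ ⊓ (M.map πZ).map
    (MulAut.conj g').toMonoidHom)) 2 (even_iff_two_dvd.1 hev)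
  have hi2 : orderOf (i : G ⧸ Subgroup.center G) = 2 := by rw [Subgroup.orderOf_coe, hi]
  obtain ⟨g, rfl⟩ := hsurj g'
  obtain ⟨⟨y₀, hy₀, hy₀i⟩, w, hw, hwi⟩ := i.2
  have hy₀z : y₀ ∉ Subgroup.center G := fun h => by
    rw [← hy₀i, (map_eq_one_iff_center _).2 h, orderOf_one] at hi2
    omega
  have hy₀2 : y₀ * y₀ ∈ Subgroup.center G := (map_eq_one_iff_center _).1 (by
    rw [map_mul, hy₀i, ← sq, ← hi2, pow_orderOf_eq_one])
  obtain ⟨j, k, hje, hjk, hjz, hj2⟩ := exists_two_lift hy₀z hy₀2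
  set y := y₀ ^ j with hy
  have hyM : y ∈ M := pow_mem hy₀ j
  have hygM : g⁻¹ * y * g ∈ M := hcomap _ (by
    have e : πZ (g⁻¹ * y * g) = w := by
      rw [map_mul, map_mul, map_inv, hje, hy₀i, ← hwi]
      show (πZ g)⁻¹ * (πZ g * w * (πZ g)⁻¹) * πZ g = w
      group
    rw [e]; exact hw)
  have hconjk : (g⁻¹ * y * g) ^ 2 ^ k = 1 := by
    have := conj_pow (a := g⁻¹) (b := y) (i := 2 ^ k)
    rw [inv_inv] at this
    rw [this, hjk]; group
  obtain ⟨m, hm, hmy⟩ := exists_conj_into S hSM hyM hjk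
  obtain ⟨m', hm', hmy'⟩ := exists_conj_into S hSM hygM hconjk
  set h := m' * g⁻¹ * m⁻¹ with hh
  have hhy : h * (m * y * m⁻¹) * h⁻¹ = m' * (g⁻¹ * y * g) * m'⁻¹ := by rw [hh]; group
  obtain ⟨n, hn, -, hcn⟩ := hCI.fusion S hmy hmy' hhy
  set y₂ := m' * (g⁻¹ * y * g) * m'⁻¹ with hy₂
  have hcj : ∀ (a z : G), a * z * a⁻¹ ∈ Subgroup.center G ↔ z ∈ Subgroup.center G := fun a z =>
    ⟨fun hz => by
      have := (Subgroup.center_le_centralizer _ hz : a * z * a⁻¹ ∈ Subgroup.centralizer ({a} : Set G))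
      have e : z = a * z * a⁻¹ := by
        have h2 := Subgroup.mem_centralizer_singleton_iff.1 this
        have h3 : a * z * a⁻¹ * a = a * z := by group
        rw [h3] at h2
        exact mul_left_cancel (h2.trans rfl) |>.trans rfl
      rw [e]; exact hz,
    fun hz => (Subgroup.Normal.conj_mem inferInstance z hz a)⟩
  have hy₂z : y₂ ∉ Subgroup.center G := fun hz => by
    have h1 := (hcj m' _).1 hz
    have h2 : g⁻¹ * y * g⁻¹⁻¹ ∈ Subgroup.center G := by rwa [inv_inv]
    exact hjz ((hcj g⁻¹ y).1 h2)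
  have hy₂2 : y₂ * y₂ ∈ Subgroup.center G := by
    have e : y₂ * y₂ = m' * (g⁻¹ * (y * y) * g⁻¹⁻¹) * m'⁻¹ := by rw [hy₂]; group
    rw [e]
    exact (hcj _ _).2 ((hcj _ _).2 hj2)
  have hhM : h ∈ M := by
    have e : h = h * n⁻¹ * n := by group
    rw [e]
    exact mul_mem (hC y₂ hmy' hy₂z hy₂2 (Subgroup.mem_centralizer_singleton_iff.2 hcn)) (hN hn)
  refine hg' ⟨g, ?_, rfl⟩
  have e : g = (m'⁻¹ * h * m)⁻¹ := by rw [hh]; group
  rw [e]
  exact inv_mem (mul_mem (mul_mem (inv_mem hm') hhM) hm)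

/-- The consequences of the theorem of Bender and Suzuki for such an image. -/
theorem bender_outcome (hP : PropPartOne.{u}) (hMain : PropMain.{u, u}) (S : Sylow 2 G)
    (M : Subgroup G) (hSM : (S : Subgroup G) ≤ M)
    (hSE : Cfsg.IsStronglyEmbedded (M.map πZ))
    (hO : Cfsg.oddCore (G ⧸ Subgroup.center G) = ⊥)
    (hZ : Subgroup.center (G ⧸ Subgroup.center G) = ⊥)
    (hgen : ∀ L : Subgroup G, L.Normal → (S : Subgroup G) ≤ L → L = ⊤) :
    TwoRank (G ⧸ Subgroup.center G) ∧ Target (G ⧸ Subgroup.center G) ∧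
      M ≤ Subgroup.normalizer ((S : Subgroup G) : Set G) := by
  haveI : Fact (Nat.Prime 2) := ⟨Nat.prime_two⟩
  have hsurj := QuotientGroup.mk'_surjective (Subgroup.center G)
  have h2 : TwoRank (G ⧸ Subgroup.center G) := by
    by_contra h
    obtain ⟨t, ht⟩ := exists_prime_orderOf_dvd_card' (G := G ⧸ Subgroup.center G) 2
      ((even_iff_two_dvd.1 hSE.2.1).trans (Subgroup.card_subgroup_dvd_card _))
    have h1 := sup_centralizer_of_iso (iso_of_not_twoRank h ht)
    rw [hO, bot_sup_eq, Subgroup.centralizer_eq_top_iff_subset, Set.singleton_subset_iff, hZ] at h1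
    rw [Subgroup.mem_bot.1 h1, orderOf_one] at ht
    omega
  have hc : (M.map πZ).normalCore = ⊥ := by
    rw [normalCore_eq_oddCore hSE h2, hO]
  obtain ⟨t, Q, hh, hg⟩ := good hP hMain hSE h2 hc
  have hS := hh.setup
  obtain ⟨L, hn, -, hQL, hT⟩ := Target.of_good hg
  set T := S.mapSurjective hsurj with hTdef
  have hTQ : Q = (T : Subgroup (G ⧸ Subgroup.center G)) := by
    have hQn : ((M.map πZ)) ≤ Subgroup.normalizer (Q : Set (G ⧸ Subgroup.center G)) := fun m hm =>
      mem_normalizer_of_conj_mem _ (hS.conj_mem m (by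
        rw [MulAction.stabilizer_quotient]; exact hm))
    have hQi : ¬ 2 ∣ Q.index := fun h =>
      Nat.not_even_iff_odd.2 (Mod.odd_index_of_setup hS) (even_iff_two_dvd.2 h)
    set SQ := hg.1.toSylow hQi
    have hle : (T : Subgroup (G ⧸ Subgroup.center G)) ≤ (SQ : Subgroup (G ⧸ Subgroup.center G)) := by
      intro y hy
      obtain ⟨k, hk⟩ := exists_pow_two_pow T hy
      exact mem_sylow_of_normalizer SQ k hk (hQn (by
        rw [hTdef, Sylow.coe_mapSurjective] at hy
        exact Subgroup.map_mono hSM hy))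
    exact (T.3 SQ.isPGroup' hle)
  refine ⟨h2, ?_, ?_⟩
  · have hL : L = ⊤ := by
      refine Subgroup.comap_injective hsurj ?_
      rw [Subgroup.comap_top]
      refine hgen _ (hn.comap _) fun s hs => ?_
      refine hQL (hTQ ▸ ?_)
      rw [hTdef, Sylow.coe_mapSurjective]
      exact Subgroup.mem_map_of_mem _ hs
    subst hL
    exact hT.congr Subgroup.topEquiv.symm
  · intro m hm
    refine mem_normalizer_of_conj_mem _ fun s hs => ?_
    obtain ⟨k, hk⟩ := exists_pow_two_pow S hs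
    refine mem_sylow_of_map S (k := k) (by rw [conj_pow, hk]; group) ?_
    have h1 := hS.conj_mem (πZ m) (by
      rw [MulAction.stabilizer_quotient]; exact Subgroup.mem_map_of_mem _ hm) (πZ s) (hTQ ▸ (by
      rw [hTdef, Sylow.coe_mapSurjective]; exact Subgroup.mem_map_of_mem _ hs))
    rw [hTQ, hTdef, Sylow.coe_mapSurjective] at h1
    simpa only [map_mul, map_inv] using h1

end Cfsg.Agent.Lib.CentralInt88
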