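import Cfsg.Agent.Lib.CentralInt88.CoreCase
import Cfsg.Agent.Lib.CentralInt88.Families
import Cfsg.Agent.Lib.CentralInt88.SmallDerived
import Cfsg.Agent.S2089
import Cfsg.Agent.S2111
import Cfsg.Agent.S2112

/-!
# The generated case: the whole group has good data
-/

set_option autoImplicit false
set_option linter.style.haveILetI false
set_option linter.unusedSectionVars false

namespace Cfsg.Agent.Lib.CentralInt88

open Cfsg.Agent.Lib.Inv59.Basic
open Cfsg.Agent.Lib.BenderConsumers23 Cfsg.Agent.Lib.BenderSuzuki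
open scoped commutatorElement

universe u

variable {G : Type u} [Group G] [Finite G]

local notation "πZ" => QuotientGroup.mk' (Subgroup.center G)

theorem center_le_normalizer (S : Sylow 2 G) :
    Subgroup.center G ≤ Subgroup.normalizer ((S : Subgroup G) : Set G) := fun z hz =>
  mem_normalizer_of_conj_mem _ fun x hx => by
    rw [← Subgroup.mem_center_iff.1 hz x, mul_inv_cancel_right]
    exact hx

theorem exists_two_mod_center (S : Sylow 2 G) (hnS : ¬ (S : Subgroup G).Normal) :
    ∃ x ∈ (S : Subgroup G), x ∉ Subgroup.center G := by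
  by_contra h
  push Not at h
  refine hnS ⟨fun x hx g => ?_⟩
  rw [Subgroup.mem_center_iff.1 (h x hx) g, mul_inv_cancel_right]
  exact hx

theorem bender_quotient (hP : PropPartOne.{u}) {S : Sylow 2 G} (hCI : CI G) (hfix : OddFix S)
    (hgen : Gen S) (hnS : ¬ (S : Subgroup G).Normal)
    (hnab : ¬ IsMulCommutative ↥(S : Subgroup G)) (hIH : Below S) :
    Cfsg.IsStronglyEmbedded ((Subgroup.normalizer ((S : Subgroup G) : Set G)).map πZ) ∧
      TwoRank (G ⧸ Subgroup.center G) ∧ Target (G ⧸ Subgroup.center G) := by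
  have hSE := stronglyEmbedded_map hCI S _ le_rfl
    (fun h => hnS (Subgroup.normalizer_eq_top_iff.1 h)) (exists_two_mod_center S hnS)
    (fun x hx hxz hx2 => core_case hP hCI hfix hgen hnS hnab hIH hx hxz hx2)
  obtain ⟨h2, hT, -⟩ := bender_outcome hP BenderSuzuki.propMain S _ Subgroup.le_normalizer hSE
    (oddCore_quotient_eq_bot hgen hfix) (center_quotient_eq_bot hgen hCI hfix hnS) hgen
  exact ⟨hSE, h2, hT⟩

theorem quotient_perfect (hT : Target (G ⧸ Subgroup.center G))
    (hZ : Subgroup.center (G ⧸ Subgroup.center G) = ⊥) :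
    commutator (G ⧸ Subgroup.center G) = ⊤ := by
  haveI := hT.isSimpleGroup
  refine ((inferInstance : (commutator (G ⧸ Subgroup.center G)).Normal).eq_bot_or_eq_top).resolve_left
    fun h => ?_
  rw [commutator_def, Subgroup.commutator_eq_bot_iff_le_centralizer, Subgroup.coe_top,
    Subgroup.centralizer_univ, top_le_iff, hZ] at h
  exact bot_ne_top h

theorem exists_decomp (hX : commutator (G ⧸ Subgroup.center G) = ⊤) (g : G) :
    ∃ l ∈ commutator G, l⁻¹ * g ∈ Subgroup.center G := by
  have h : πZ g ∈ (commutator G).map πZ := by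
    rw [commutator_def, Subgroup.map_commutator,
      Subgroup.map_top_of_surjective _ (QuotientGroup.mk'_surjective _), ← commutator_def, hX]
    exact Subgroup.mem_top _
  obtain ⟨l, hl, hlg⟩ := h
  exact ⟨l, hl, QuotientGroup.eq.1 hlg⟩

theorem commutator_perfect (hX : commutator (G ⧸ Subgroup.center G) = ⊤) :
    ⁅commutator G, commutator G⁆ = commutator G := by
  refine le_antisymm (Subgroup.commutator_le_left _ _) ?_
  conv_lhs => rw [commutator_def]
  refine Subgroup.commutator_le.2 fun a _ b _ => ?_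
  obtain ⟨l₁, hl₁, hz₁⟩ := exists_decomp hX a
  obtain ⟨l₂, hl₂, hz₂⟩ := exists_decomp hX b
  have hconj : ∀ {l g : G}, l⁻¹ * g ∈ Subgroup.center G → ∀ y, g * y * g⁻¹ = l * y * l⁻¹ := by
    intro l g hz y
    calc g * y * g⁻¹ = l * ((l⁻¹ * g) * y * (l⁻¹ * g)⁻¹) * l⁻¹ := by group
      _ = l * y * l⁻¹ := by rw [← Subgroup.mem_center_iff.1 hz y, mul_inv_cancel_right]
  have e : ⁅a, b⁆ = ⁅l₁, l₂⁆ := by
    rw [commutatorElement_def, commutatorElement_def, hconj hz₁ b,
      show l₁ * b * l₁⁻¹ * b⁻¹ = l₁ * (b * l₁⁻¹ * b⁻¹) by group, hconj hz₂ l₁⁻¹]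
    group
  rw [e]
  exact Subgroup.commutator_mem_commutator hl₁ hl₂

theorem centralizer_commutator (hX : commutator (G ⧸ Subgroup.center G) = ⊤) :
    Subgroup.centralizer (commutator G : Set G) = Subgroup.center G := by
  refine le_antisymm (fun c hc => Subgroup.mem_center_iff.2 fun g => ?_) (Subgroup.center_le_centralizer _)
  obtain ⟨l, hl, hz⟩ := exists_decomp hX g
  have h1 : l * c = c * l := Subgroup.mem_centralizer_iff.1 hc l hl
  calc g * c = l * ((l⁻¹ * g) * c) := by group
    _ = l * (c * (l⁻¹ * g)) := by rw [← Subgroup.mem_center_iff.1 hz c]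
    _ = l * c * (l⁻¹ * g) := by group
    _ = c * g := by rw [h1]; group

theorem sylow_le_commutator (hX : commutator (G ⧸ Subgroup.center G) = ⊤) (S : Sylow 2 G) :
    (S : Subgroup G) ≤ ((S : Subgroup G) ⊓ Subgroup.center G) ⊔ ((S : Subgroup G) ⊓ commutator G) := by
  intro s hs
  obtain ⟨l, hl, hls⟩ := exists_decomp hX s
  obtain ⟨k, hk⟩ := exists_pow_two_pow S hs
  obtain ⟨j, m, hm, hjm⟩ := Nat.exists_eq_pow_mul_and_not_dvd (orderOf_pos l).ne' 2 (by norm_num)
  have hπ : πZ l = πZ s := QuotientGroup.eq.2 hls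
  have hlm : l ^ m ∈ (S : Subgroup G) := mem_sylow_of_map S (k := j)
    (by rw [← pow_mul, mul_comm, ← hjm, pow_orderOf_eq_one])
    ⟨s ^ m, pow_mem hs m, by rw [map_pow, map_pow, hπ]⟩
  obtain ⟨i, hi⟩ := exists_pow_eq_self_of_coprime (n := m) (x := s) (by
    obtain ⟨i, -, hi⟩ := (Nat.dvd_prime_pow Nat.prime_two).1 (orderOf_dvd_of_pow_eq_one hk)
    rw [hi]
    exact ((Nat.prime_two.coprime_iff_not_dvd.2 hm).symm).pow_right i)
  set t := (l ^ m) ^ i with ht
  have htπ : πZ t = πZ s := by rw [ht, map_pow, map_pow, hπ, ← map_pow, ← map_pow, hi]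
  have htS : t ∈ (S : Subgroup G) := pow_mem hlm i
  have hz : t⁻¹ * s ∈ Subgroup.center G := QuotientGroup.eq.1 htπ
  rw [show s = t⁻¹ * s * t by rw [← Subgroup.mem_center_iff.1 hz t, mul_inv_cancel_left]]
  exact Subgroup.mul_mem_sup ⟨(S : Subgroup G).mul_mem ((S : Subgroup G).inv_mem htS) hs, hz⟩ ⟨htS, pow_mem (pow_mem hl m) i⟩

theorem perfect_commutator (hX : commutator (G ⧸ Subgroup.center G) = ⊤) :
    commutator ↥(commutator G) = ⊤ :=
  Subgroup.map_injective (commutator G).subtype_injective (by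
    rw [Subgroup.map_subtype_commutator, ← MonoidHom.range_eq_map, Subgroup.range_subtype]
    exact commutator_perfect hX)

theorem stem_commutator (hX : commutator (G ⧸ Subgroup.center G) = ⊤) :
    Cfsg.IsStemExtension ((πZ).comp (commutator G).subtype) := by
  refine ⟨fun q => ?_, fun x hx => Subgroup.mem_center_iff.2 fun z => Subtype.ext ?_,
    by rw [perfect_commutator hX]; exact le_top⟩
  · obtain ⟨g, rfl⟩ := QuotientGroup.mk'_surjective _ q
    obtain ⟨l, hl, hlg⟩ := exists_decomp hX g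
    exact ⟨⟨l, hl⟩, QuotientGroup.eq.2 hlg⟩
  · exact Subgroup.mem_center_iff.1 ((map_eq_one_iff_center (G := G) _).1 hx) z

theorem pow_card_eq_one (hX : commutator (G ⧸ Subgroup.center G) = ⊤) {A : Type} [CommGroup A]
    (hA : Cfsg.HasSchurMultiplier (G ⧸ Subgroup.center G) A) {c : G} (hc : c ∈ commutator G)
    (hcz : c ∈ Subgroup.center G) : c ^ Nat.card A = 1 := by
  have hmem : (⟨c, hc⟩ : ↥(commutator G)) ∈ ((πZ).comp (commutator G).subtype).ker :=
    (map_eq_one_iff_center (G := G) _).2 hcz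
  have h1 : (⟨⟨c, hc⟩, hmem⟩ : ((πZ).comp (commutator G).subtype).ker) ^ Nat.card A = 1 :=
    orderOf_dvd_iff_pow_eq_one.1
      ((orderOf_dvd_natCard _).trans (ker_card_dvd hA _ (stem_commutator hX)))
  exact congrArg (fun x : ((πZ).comp (commutator G).subtype).ker => ((x : ↥(commutator G)) : G)) h1

/-- Two involutions modulo the centre in `S` are conjugate in `N(S)` modulo the centre. -/
theorem exists_fusion (hCI : CI G) {S : Sylow 2 G}
    (hSE : Cfsg.IsStronglyEmbedded ((Subgroup.normalizer ((S : Subgroup G) : Set G)).map πZ))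
    {y y' : G} (hy : y ∈ (S : Subgroup G)) (hyz : y ∉ Subgroup.center G)
    (hy2 : y * y ∈ Subgroup.center G) (hy' : y' ∈ (S : Subgroup G))
    (hy'z : y' ∉ Subgroup.center G) (hy'2 : y' * y' ∈ Subgroup.center G) :
    ∃ n ∈ Subgroup.normalizer ((S : Subgroup G) : Set G),
      n * y * n⁻¹ * y'⁻¹ ∈ Subgroup.center G := by
  have ho : ∀ {z : G}, z ∉ Subgroup.center G → z * z ∈ Subgroup.center G → orderOf (πZ z) = 2 :=
    fun hz hz2 => orderOf_eq_prime (by rw [sq, ← map_mul]; exact (map_eq_one_iff_center _).2 hz2)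
      fun h => hz ((map_eq_one_iff_center _).1 h)
  obtain ⟨c, hc⟩ := isConj_iff.1
    (Involutions.StronglyEmbedded.isConj_involutions hSE (ho hyz hy2) (ho hy'z hy'2))
  obtain ⟨g, rfl⟩ := QuotientGroup.mk'_surjective _ c
  obtain ⟨k, hk⟩ := exists_pow_two_pow S hy
  have hπ : πZ (g * y * g⁻¹) = πZ y' := by rw [map_mul, map_mul, map_inv]; exact hc
  have hw : g * y * g⁻¹ ∈ (S : Subgroup G) := mem_sylow_of_map S (k := k)
    (by rw [conj_pow, hk]; group) ⟨y', hy', hπ.symm⟩
  obtain ⟨n, hn, hny, -⟩ := hCI.fusion S hy hw rfl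
  refine ⟨n, hn, (map_eq_one_iff_center _).1 ?_⟩
  rw [hny, map_mul, hπ, map_inv, mul_inv_cancel]

theorem conj_cent {S : Sylow 2 G} {n c : G}
    (hn : n ∈ Subgroup.normalizer ((S : Subgroup G) : Set G)) (hc : Cent S c) :
    Cent S (n * c * n⁻¹) := fun s hs => by
  have h := hc (n⁻¹ * s * n) ((Subgroup.mem_normalizer_iff''.1 hn s).1 hs)
  calc s * (n * c * n⁻¹) = n * ((n⁻¹ * s * n) * c) * n⁻¹ := by group
    _ = n * (c * (n⁻¹ * s * n)) * n⁻¹ := by rw [h]
    _ = n * c * n⁻¹ * s := by group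

/-- The derived group of `S` avoids the centre, when an involution modulo the centre is central
in `S`. -/
theorem derived_inf_center (hCI : CI G) {S : Sylow 2 G}
    (hnab : ¬ IsMulCommutative ↥(S : Subgroup G))
    (hSE : Cfsg.IsStronglyEmbedded ((Subgroup.normalizer ((S : Subgroup G) : Set G)).map πZ))
    (hT : Target (G ⧸ Subgroup.center G))
    (hX : commutator (G ⧸ Subgroup.center G) = ⊤) {y : G} (hy : y ∈ (S : Subgroup G))
    (hyz : y ∉ Subgroup.center G) (hy2 : y * y ∈ Subgroup.center G) (hyc : Cent S y) :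
    ∀ c ∈ ⁅(S : Subgroup G), (S : Subgroup G)⁆, c ∈ Subgroup.center G → c = 1 := by
  classical
  haveI : Fact (Nat.Prime 2) := ⟨Nat.prime_two⟩
  have hsurj := QuotientGroup.mk'_surjective (Subgroup.center G)
  have hB : ∀ z ∈ (S : Subgroup G), z * z ∈ Subgroup.center G → Cent S z := by
    intro z hz hz2
    by_cases hzc : z ∈ Subgroup.center G
    · exact fun s _ => Subgroup.mem_center_iff.1 hzc s
    obtain ⟨n, hn, hnz⟩ := exists_fusion hCI hSE hy hyz hy2 hz hzc hz2
    intro s hs
    have h1 := conj_cent hn hyc s hs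
    have h2 := Subgroup.mem_center_iff.1 (inv_mem hnz) s
    have e : z = (n * y * n⁻¹ * z⁻¹)⁻¹ * (n * y * n⁻¹) := by group
    rw [e]
    exact ((show Commute s _ from h2).mul_right (show Commute s _ from h1)).eq
  have hSL : ⁅(S : Subgroup G), (S : Subgroup G)⁆ ≤ commutator G :=
    Subgroup.commutator_mono le_top le_top
  have hker : ∀ {A : Type} [CommGroup A], Cfsg.HasSchurMultiplier (G ⧸ Subgroup.center G) A →
      ∀ c ∈ ⁅(S : Subgroup G), (S : Subgroup G)⁆, c ∈ Subgroup.center G → c ^ Nat.card A = 1 :=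
    fun hA c hc hcz => pow_card_eq_one hX hA (hSL hc) hcz
  set T := S.mapSurjective hsurj with hTdef
  have hTmem : ∀ s ∈ (S : Subgroup G), πZ s ∈ (T : Subgroup (G ⧸ Subgroup.center G)) := fun s hs => by
    rw [hTdef, Sylow.coe_mapSurjective]; exact Subgroup.mem_map_of_mem _ hs
  rcases hT with ⟨F, _, _, n, hn, hF, ⟨e⟩⟩ | ⟨F, _, _, m, hm, hF, ⟨e⟩⟩ | ⟨F, _, _, n, hn, hF, ⟨e⟩⟩
  · refine absurd (Subgroup.le_centralizer_iff_isMulCommutative.1 fun s hs => ?_) hnab
    refine Subgroup.mem_centralizer_iff.2 (hB s hs ((map_eq_one_iff_center _).1 ?_))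
    rw [map_mul]
    exact (sylow_linear hF e T).1 _ (hTmem s hs)
  · intro c hc hcz
    by_cases hm2 : 2 ≤ m
    · have h := hker (Cfsg.Agent.Lib.Schur.Universe.hasSchurMultiplier_lift e.symm
        (Cfsg.Agent.S2111.result hm2 hF)) c hc hcz
      simpa using h
    obtain rfl : m = 1 := by omega
    obtain ⟨hcard, hexp, hder⟩ := sylow_suzuki le_rfl hF e T
    set f : ↥(S : Subgroup G) →* G ⧸ Subgroup.center G := (πZ).comp (S : Subgroup G).subtype with hf
    have hfr : f.range = (T : Subgroup (G ⧸ Subgroup.center G)) := by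
      rw [hf, MonoidHom.range_comp, Subgroup.range_subtype, hTdef, Sylow.coe_mapSurjective]
    have hsq : ∀ s : ↥(S : Subgroup G), s * s ∈ Subgroup.center ↥(S : Subgroup G) := fun s => by
      have h4 : (s : G) * s * (s * s) ∈ Subgroup.center G := (map_eq_one_iff_center _).1 (by
        rw [← hexp _ (hTmem s s.2), ← map_pow]
        congr 1
        rw [pow_succ, pow_succ, pow_two]; group)
      exact Subgroup.mem_center_iff.2 fun t =>
        Subtype.ext (hB ((s : G) * s) (mul_mem s.2 s.2) h4 t t.2)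
    have hmapc : (commutator ↥(S : Subgroup G)).map f =
        ⁅(T : Subgroup (G ⧸ Subgroup.center G)), (T : Subgroup (G ⧸ Subgroup.center G))⁆ := by
      rw [commutator_def, Subgroup.map_commutator, ← MonoidHom.range_eq_map, hfr]
    have hcc : commutator ↥(S : Subgroup G) ≤ Subgroup.center ↥(S : Subgroup G) := by
      rw [commutator_def, Subgroup.commutator_le]
      exact fun a _ b _ => (commutator_sq_mem hsq a b).1
    have hidx : (Subgroup.center ↥(S : Subgroup G)).index ≤ 8 := by
      have hk : f.rangeRestrict.ker ≤ Subgroup.center ↥(S : Subgroup G) := fun s hs => by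
        rw [MonoidHom.ker_rangeRestrict] at hs
        exact Subgroup.mem_center_iff.2 fun t => Subtype.ext
          (Subgroup.mem_center_iff.1 ((map_eq_one_iff_center (G := G) _).1 hs) t)
      rw [← Subgroup.index_map_eq _ f.rangeRestrict_surjective hk]
      have h1 := Subgroup.card_mul_index ((Subgroup.center ↥(S : Subgroup G)).map f.rangeRestrict)
      have h2 : Nat.card ↥f.range = 64 := by rw [hfr, hcard]; norm_num
      have h3 : 8 ≤ Nat.card ↥((Subgroup.center ↥(S : Subgroup G)).map f.rangeRestrict) := by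
        rw [← Subgroup.card_map_of_injective f.range.subtype_injective, Subgroup.map_map,
          MonoidHom.subtype_comp_rangeRestrict]
        have := Subgroup.card_dvd_of_le (Subgroup.map_mono (f := f) hcc)
        rw [hmapc, hder] at this
        exact Nat.le_of_dvd Nat.card_pos this
      rw [h2] at h1
      by_contra hlt
      push Not at hlt
      have := Nat.mul_le_mul h3 hlt
      omega
    have h8 := card_commutator_le hsq hidx
    set g : ↥(commutator ↥(S : Subgroup G)) →* G ⧸ Subgroup.center G :=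
      f.comp (commutator ↥(S : Subgroup G)).subtype with hg
    have hgr : Nat.card g.range = 8 := by
      rw [hg, MonoidHom.range_comp, Subgroup.range_subtype, hmapc, hder]
      norm_num
    have hg1 : g.ker = ⊥ := by
      refine Subgroup.eq_bot_of_card_eq _ ?_
      have h1 := Subgroup.card_mul_index g.ker
      rw [Subgroup.index_ker, hgr] at h1
      have := Nat.card_pos (α := g.ker)
      omega
    have hcS : (⟨c, commutator_le_self S hc⟩ : ↥(S : Subgroup G)) ∈ commutator ↥(S : Subgroup G) := by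
      have : c ∈ (commutator ↥(S : Subgroup G)).map (S : Subgroup G).subtype := by
        rw [commutator_def, Subgroup.map_commutator, ← MonoidHom.range_eq_map, Subgroup.range_subtype]
        exact hc
      obtain ⟨z, hz, hzc⟩ := this
      rwa [show (⟨c, commutator_le_self S hc⟩ : ↥(S : Subgroup G)) = z from Subtype.ext hzc.symm]
    have hmem : (⟨_, hcS⟩ : ↥(commutator ↥(S : Subgroup G))) ∈ g.ker :=
      (map_eq_one_iff_center (G := G) _).2 hcz
    rw [hg1, Subgroup.mem_bot] at hmem
    exact congrArg (fun x : ↥(commutator ↥(S : Subgroup G)) => ((x : ↥(S : Subgroup G)) : G)) hmem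
  · intro c hc hcz
    have h2 : 2 ^ 2 ≤ 2 ^ n := Nat.pow_le_pow_right two_pos hn
    have h := hker (Cfsg.Agent.Lib.Schur.Universe.hasSchurMultiplier_lift e.symm
      (Cfsg.Agent.S2089.result 3 (2 ^ n) hF le_rfl (by omega) (by simp))) c hc hcz
    rw [Nat.card_congr Multiplicative.toAdd, Nat.card_zmod] at h
    obtain ⟨k, hk⟩ := exists_pow_two_pow S (commutator_le_self S hc)
    refine orderOf_eq_one_iff.1 (Nat.eq_one_of_dvd_coprimes (?_ : Nat.Coprime (2 ^ k) _)
      (orderOf_dvd_of_pow_eq_one hk) (orderOf_dvd_of_pow_eq_one h))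
    exact ((Nat.Prime.coprime_iff_not_dvd Nat.prime_two).2 fun hd => by
      have h3 := hd.trans (Nat.gcd_dvd_left 3 (2 ^ n + 1))
      omega).pow_left k

/-- The generated case gives good data for the whole group. -/
theorem gen_case (hP : PropPartOne.{u}) {S : Sylow 2 G} (hCI : CI G) (hfix : OddFix S)
    (hgen : Gen S) (hnS : ¬ (S : Subgroup G).Normal)
    (hnab : ¬ IsMulCommutative ↥(S : Subgroup G)) (hIH : Below S) :
    Good S ⊤ (commutator G) := by
  haveI : Fact (Nat.Prime 2) := ⟨Nat.prime_two⟩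
  obtain ⟨hSE, h2, hT⟩ := bender_quotient hP hCI hfix hgen hnS hnab hIH
  have hX := quotient_perfect hT (center_quotient_eq_bot hgen hCI hfix hnS)
  have hC := centralizer_commutator hX
  refine ⟨le_top, ?_, commutator_perfect hX, ?_, ?_, ?_, ?_, ?_, ?_, ?_⟩
  · rw [Subgroup.normalizer_eq_top_iff.2 inferInstance]
  · intro R _ hR
    rw [← hR, commutator_def]
    exact Subgroup.commutator_mono le_top le_top
  · rw [hC]; exact sylow_le_commutator hX S
  · intro h
    refine hnS (Subgroup.normalizer_eq_top_iff.1 ((Subgroup.eq_top_iff' _).2 fun g => ?_))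
    obtain ⟨l, hl, hlg⟩ := exists_decomp hX g
    have := mul_mem (h hl) (center_le_normalizer S hlg)
    rwa [mul_inv_cancel_left] at this
  · rintro y ⟨hy, hyz, hy2⟩
    rw [hC] at hyz hy2
    exact inf_le_right.trans (core_case hP hCI hfix hgen hnS hnab hIH hy hyz hy2)
  · rintro y y' ⟨hy, hyz, hy2⟩ ⟨hy', hy'z, hy'2⟩
    rw [hC] at hyz hy2 hy'z hy'2 ⊢
    obtain ⟨n, hn, hnz⟩ := exists_fusion hCI hSE hy hyz hy2 hy' hy'z hy'2
    obtain ⟨l, hl, hln⟩ := exists_decomp hX n
    refine ⟨l, ⟨hl, ?_⟩, ?_⟩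
    · have := mul_mem hn (inv_mem (center_le_normalizer S hln))
      rwa [show n * (l⁻¹ * n)⁻¹ = l by group] at this
    · have e : n * y * n⁻¹ = l * y * l⁻¹ := by
        calc n * y * n⁻¹ = l * ((l⁻¹ * n) * y * (l⁻¹ * n)⁻¹) * l⁻¹ := by group
          _ = l * y * l⁻¹ := by rw [← Subgroup.mem_center_iff.1 hln y, mul_inv_cancel_right]
      rwa [← e]
  · obtain ⟨x, y, hx, hy, hne, hxx, hyy, hxy⟩ := h2
    have hord : ∀ {z : G ⧸ Subgroup.center G}, z * z = 1 → IsPGroup 2 ↥(Subgroup.zpowers z) :=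
      fun {z} hz => by
        obtain ⟨i, -, hi⟩ := (Nat.dvd_prime_pow Nat.prime_two).1
          (orderOf_dvd_of_pow_eq_one (show z ^ 2 ^ 1 = 1 by rw [pow_one, sq, hz]))
        exact IsPGroup.of_card (n := i) (by rw [Nat.card_zpowers, hi])
    have hQ : IsPGroup 2 ↥(Subgroup.zpowers x ⊔ Subgroup.zpowers y) := by
      refine IsPGroup.to_sup_of_normal_left' (hord hxx) (hord hyy) (Subgroup.zpowers_le.2 ?_)
      refine mem_normalizer_of_conj_mem _ fun z hz => ?_
      obtain ⟨i, rfl⟩ := Subgroup.mem_zpowers_iff.1 hz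
      rw [((show Commute x y from hxy).zpow_left i).symm.eq, mul_inv_cancel_right]
      exact hz
    have hsurj := QuotientGroup.mk'_surjective (Subgroup.center G)
    obtain ⟨h, -, hh⟩ := exists_conj_mem_sylow (S.mapSurjective hsurj) ⊤ _ le_top hQ le_top
    have hx' := hh x (Subgroup.mem_sup_left (Subgroup.mem_zpowers x))
    have hy' := hh y (Subgroup.mem_sup_right (Subgroup.mem_zpowers y))
    rw [Sylow.coe_mapSurjective] at hx' hy'
    obtain ⟨a, haS, ha⟩ := hx'
    obtain ⟨b, hbS, hb⟩ := hy'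
    have hout : ∀ {z : G ⧸ Subgroup.center G} {c : G}, z ≠ 1 → z * z = 1 → c ∈ (S : Subgroup G) →
        πZ c = h * z * h⁻¹ → Outer S (commutator G) c := fun {z c} hz hzz hc he => by
      refine ⟨hc, ?_, ?_⟩ <;> rw [hC]
      · intro hcz
        rw [(map_eq_one_iff_center _).2 hcz, eq_comm, conj_eq_one_iff] at he
        exact hz he
      · refine (map_eq_one_iff_center _).1 ?_
        rw [map_mul, he, show h * z * h⁻¹ * (h * z * h⁻¹) = h * (z * z) * h⁻¹ by group, hzz, mul_one,
          mul_inv_cancel]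
    refine ⟨a, b, hout hx hxx haS ha, hout hy hyy hbS hb, ?_⟩
    rw [hC]
    intro hab
    have h1 := (map_eq_one_iff_center _).2 hab
    rw [map_mul, map_inv, ha, hb, mul_inv_eq_one, mul_left_inj, mul_right_inj] at h1
    exact hne h1
  · rintro ⟨y, ⟨hy, hyz, hy2⟩, hyc⟩
    rw [hC] at hyz hy2 ⊢
    have h := derived_inf_center hCI hnab hSE hT hX hy hyz hy2 hyc
    refine ⟨h, fun hle => hnab ?_⟩
    refine Subgroup.le_centralizer_iff_isMulCommutative.1 ?_
    rw [← Subgroup.commutator_eq_bot_iff_le_centralizer, eq_bot_iff]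
    exact fun c hc => Subgroup.mem_bot.2 (h c hc (hle hc))

end Cfsg.Agent.Lib.CentralInt88
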